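import Mathlib
import Cfsg.Agent.H363.Frat
import Cfsg.Agent.S0033
import Cfsg.Agent.S0041
import Cfsg.Agent.SignalizersComponents.ComponentExists

/-!
# Isolated primes in the prime graph

`Isolated G r`: the prime `r` is joined to no other prime in the prime graph of `G`, that is, no
element of `G` has order `r * s` with `s ≠ r` a prime.

* `isPGroup_centralizer`: the centralizer of a nontrivial `r`-element is an `r`-group;
* `isNilpotent_of_normal`: normal `r'`-subgroups are nilpotent (`r ∣ |G|`), by Thompson's theorem;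
* `exists_orderOf_two_mul`: if `G` has even order and a nontrivial normal abelian `r`-subgroup then
  `2 m` is an element order for every odd element order `m` prime to `r`;
* `main`: `G` nonsolvable, `r` odd, isolated, `2 m` not an element order for some odd element order
  `m` prime to `r`: the solvable radical `K` is a nilpotent `r'`-group and `G / K` has a unique minimal
  normal subgroup, it is simple and its order is divisible by `r`.
-/

set_option autoImplicit false
set_option linter.dupNamespace false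

namespace Cfsg.Agent.H455.Isolated

open Subgroup
open scoped commutatorElement
open Cfsg.Agent.H363.Frat

/-- `r` is joined to no other prime -/
def Isolated (G : Type*) [Group G] (r : ℕ) : Prop := ∀ s : ℕ, s.Prime → s ≠ r → NonAdj G r s

section Basic

variable {G : Type*} [Group G] {r : ℕ}

theorem Isolated.subgroup (h : Isolated G r) (H : Subgroup G) : Isolated H r :=
  fun s hs hsr => (h s hs hsr).subgroup H

theorem Isolated.of_surjective [Finite G] (h : Isolated G r) {G' : Type*} [Group G'] (f : G →* G')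
    (hf : Function.Surjective f) : Isolated G' r :=
  fun s hs hsr => (h s hs hsr).of_surjective f hf

theorem Isolated.of_injective (h : Isolated G r) {G' : Type*} [Group G'] (f : G' →* G)
    (hf : Function.Injective f) : Isolated G' r :=
  fun s hs hsr => (h s hs hsr).of_injective f hf

theorem Isolated.quotient [Finite G] (h : Isolated G r) (N : Subgroup G) [N.Normal] :
    Isolated (G ⧸ N) r := h.of_surjective (QuotientGroup.mk' N) (QuotientGroup.mk'_surjective N)

variable [Finite G]

/-- an element whose order is a multiple of `m` has a power of order `m` -/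
theorem exists_pow_orderOf {g : G} {m : ℕ} (h : m ∣ orderOf g) : ∃ k, orderOf (g ^ k) = m := by
  obtain ⟨c, hc⟩ := h
  have hc0 : c ≠ 0 := by
    rintro rfl
    have := orderOf_pos g
    omega
  refine ⟨c, ?_⟩
  rw [orderOf_pow_of_dvd hc0 ⟨m, by rw [hc, mul_comm]⟩, hc]
  exact Nat.mul_div_cancel _ (Nat.pos_of_ne_zero hc0)

/-- An element commuting with an element of order `r` is an `r`-element. -/
theorem orderOf_of_commute (h : Isolated G r) (hr : r.Prime) {x y : G} (hx : orderOf x = r)
    (hxy : Commute x y) : ∃ k, orderOf y = r ^ k := by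
  refine ⟨(orderOf y).primeFactorsList.length, ?_⟩
  apply Nat.eq_prime_pow_of_unique_prime_dvd (orderOf_pos y).ne'
  intro s hs hsy
  by_contra hsr
  obtain ⟨k, hk⟩ := exists_pow_orderOf hsy
  have h1 : Commute x (y ^ k) := hxy.pow_right k
  have hcop : (orderOf x).Coprime (orderOf (y ^ k)) := by
    rw [hx, hk]
    exact (Nat.coprime_primes hr hs).mpr (Ne.symm hsr)
  apply h s hs hsr (x * y ^ k)
  rw [h1.orderOf_mul_eq_mul_orderOf_of_coprime hcop, hx, hk]

/-- An `r'`-element commuting with an element of order `r` is trivial. -/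
theorem eq_one_of_commute' (h : Isolated G r) (hr : r.Prime) {x y : G} (hx : orderOf x = r)
    (hxy : Commute x y) (hy : ¬ r ∣ orderOf y) : y = 1 := by
  obtain ⟨k, hk⟩ := orderOf_of_commute h hr hx hxy
  rcases Nat.eq_zero_or_pos k with hk0 | hk0
  · rw [hk0, pow_zero, orderOf_eq_one_iff] at hk
    exact hk
  · exfalso
    apply hy
    rw [hk]
    exact dvd_pow_self r hk0.ne'

/-- the centralizer of a nontrivial `r`-subgroup is an `r`-group -/
theorem isPGroup_centralizer (h : Isolated G r) (hr : r.Prime) {V : Subgroup G}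
    (hV : IsPGroup r V) (hV1 : V ≠ ⊥) : IsPGroup r (centralizer (V : Set G)) := by
  have : Fact r.Prime := ⟨hr⟩
  have h1 : r ∣ Nat.card V := by
    rcases hV.card_eq_or_dvd with h1 | h1
    · exact absurd (card_eq_one.mp h1) hV1
    · exact h1
  obtain ⟨⟨x, hxV⟩, hx⟩ := exists_prime_orderOf_dvd_card' r h1
  have hx' : orderOf x = r := by rw [← hx, ← Subgroup.orderOf_coe]
  rw [IsPGroup.iff_orderOf]
  rintro ⟨y, hy⟩
  have h2 : Commute x y := mem_centralizer_iff.mp hy x hxV
  obtain ⟨k, hk⟩ := orderOf_of_commute h hr hx' h2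
  exact ⟨k, by rw [← hk, ← Subgroup.orderOf_coe]⟩

/-- normal `r'`-subgroups are nilpotent -/
theorem isNilpotent_of_normal (h : Isolated G r) (hr : r.Prime) (hrG : r ∣ Nat.card G)
    (N : Subgroup G) [N.Normal] (hN : ¬ r ∣ Nat.card N) : Group.IsNilpotent N := by
  have : Fact r.Prime := ⟨hr⟩
  obtain ⟨x, hx⟩ := exists_prime_orderOf_dvd_card' r hrG
  by_cases hN1 : N = ⊥
  · rw [hN1]
    infer_instance
  · have hfix : ∀ n : N, MulAut.conjNormal x n = n → n = 1 := by
      intro n hn
      have h1 : x * (n : G) * x⁻¹ = n := by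
        have := congrArg Subtype.val hn
        simpa using this
      have h2 : Commute x (n : G) := by
        show x * (n : G) = n * x
        calc x * (n : G) = (x * (n : G) * x⁻¹) * x := by group
          _ = n * x := by rw [h1]
      apply Subtype.ext
      apply eq_one_of_commute' h hr hx h2
      intro hd
      apply hN
      exact (hd.trans (by rw [Subgroup.orderOf_coe])).trans (orderOf_dvd_natCard n)
    apply S0033.result (G := N) (MulAut.conjNormal x) ?_ r hr ?_
    · intro n hn
      exact hfix n hn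
    · rw [orderOf_eq_prime_iff]
      refine ⟨?_, ?_⟩
      · rw [← map_pow, ← hx, pow_orderOf_eq_one, map_one]
      · intro h1
        apply hN1
        rw [eq_bot_iff]
        intro n hn
        have := hfix ⟨n, hn⟩ (by rw [h1]; rfl)
        exact congrArg Subtype.val this

/-- **Even order**: `V ≠ 1` a normal abelian `r`-subgroup, `r` odd and isolated: `2 m` is the order of an
element for each odd element order `m` prime to `r`. -/
theorem exists_orderOf_two_mul (h : Isolated G r) (hr : r.Prime) (hr2 : r ≠ 2)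
    (h2 : 2 ∣ Nat.card G) {V : Subgroup G} [hVn : V.Normal] (hV : IsPGroup r V) (hV1 : V ≠ ⊥)
    (hab : ∀ a ∈ V, ∀ b ∈ V, a * b = b * a) (y : G) (hy : Odd (orderOf y))
    (hyr : (orderOf y).Coprime r) : ∃ g : G, orderOf g = 2 * orderOf y := by
  have : Fact (Nat.Prime 2) := ⟨Nat.prime_two⟩
  have hfr : Fact r.Prime := ⟨hr⟩
  obtain ⟨t, ht⟩ := exists_prime_orderOf_dvd_card' 2 h2
  have hC := isPGroup_centralizer h hr hV hV1
  -- an element of `V` commuting with `t` is trivial
  have hfix : ∀ v ∈ V, Commute t v → v = 1 := by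
    intro v hv hc
    by_contra hv1
    obtain ⟨k, hk⟩ := (IsPGroup.iff_orderOf.mp hV) ⟨v, hv⟩
    have hk' : orderOf v = r ^ k := by rw [← hk, ← Subgroup.orderOf_coe]
    have := eq_one_of_commute (G := G) (p := 2) (s := r) Nat.prime_two hr (Ne.symm hr2)
      ((h 2 Nat.prime_two (Ne.symm hr2)).symm) ⟨1, by rw [ht, pow_one]⟩ ⟨k, hk'⟩ hc hv1
    rw [this, orderOf_one] at ht
    omega
  have htt : t * t = 1 := by
    have := pow_orderOf_eq_one t
    rwa [ht, sq] at this
  have hti : t⁻¹ = t := inv_eq_of_mul_eq_one_left htt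
  have hinv : ∀ v ∈ V, t * v * t⁻¹ = v⁻¹ := by
    intro v hv
    have hv' : t * v * t⁻¹ ∈ V := hVn.conj_mem v hv t
    have h1 : Commute t (v * (t * v * t⁻¹)) := by
      show t * (v * (t * v * t⁻¹)) = v * (t * v * t⁻¹) * t
      rw [hab v hv _ hv']
      calc t * (t * v * t⁻¹ * v) = (t * t) * v * t⁻¹ * v := by group
        _ = v * t⁻¹ * v := by rw [htt]; group
        _ = v * t * v := by rw [hti]
        _ = v * t * v * t⁻¹ * t := by group
        _ = (v * (t * v * t⁻¹)) * t := by group
        _ = ((t * v * t⁻¹) * v) * t := by rw [hab v hv _ hv']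
    have h2 := hfix _ (V.mul_mem hv hv') h1
    exact eq_inv_of_mul_eq_one_right h2
  -- work in `G / C`
  obtain ⟨C, hCe⟩ : ∃ C, C = centralizer (V : Set G) := ⟨_, rfl⟩
  have hCn : C.Normal := by rw [hCe]; infer_instance
  rw [← hCe] at hC
  have hCord : ∀ g ∈ C, ∃ k, orderOf g = r ^ k := by
    intro g hg
    obtain ⟨k, hk⟩ := (IsPGroup.iff_orderOf.mp hC) ⟨g, hg⟩
    exact ⟨k, by rw [← hk, ← Subgroup.orderOf_coe]⟩
  have hord : ∀ g : G, (orderOf g).Coprime r → orderOf (g : G ⧸ C) = orderOf g := by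
    intro g hg
    apply Nat.dvd_antisymm (orderOf_map_dvd (QuotientGroup.mk' C) g)
    rw [orderOf_dvd_iff_pow_eq_one]
    have h1 : g ^ orderOf (g : G ⧸ C) ∈ C := by
      rw [← QuotientGroup.eq_one_iff, QuotientGroup.mk_pow]
      exact pow_orderOf_eq_one _
    obtain ⟨k, hk⟩ := hCord _ h1
    have h2 : orderOf (g ^ orderOf (g : G ⧸ C)) ∣ orderOf g := orderOf_pow_dvd _
    have h3 : (r ^ k).Coprime (r ^ k) := by
      have h4 : (orderOf g).Coprime (r ^ k) := Nat.Coprime.pow_right k hg
      rw [hk] at h2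
      exact Nat.Coprime.coprime_dvd_left h2 h4
    rw [Nat.coprime_self] at h3
    have h5 : g ^ orderOf (g : G ⧸ C) = 1 := by rw [← orderOf_eq_one_iff, hk, h3]
    exact h5
  have hcomm : Commute (t : G ⧸ C) (y : G ⧸ C) := by
    show (t : G ⧸ C) * (y : G ⧸ C) = (y : G ⧸ C) * (t : G ⧸ C)
    rw [← QuotientGroup.mk_mul, ← QuotientGroup.mk_mul, QuotientGroup.eq, hCe,
      mem_centralizer_iff]
    intro v hv
    have hyv : y * v * y⁻¹ ∈ V := hVn.conj_mem v hv y
    have e1 : t * (y * v * y⁻¹) * t⁻¹ = y * (t * v * t⁻¹) * y⁻¹ := by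
      rw [hinv _ hyv, hinv _ hv]
      group
    -- `(ty)⁻¹ (yt)` commutes with `v`
    have e2 : (t * y) * v * (t * y)⁻¹ = (y * t) * v * (y * t)⁻¹ := by
      calc (t * y) * v * (t * y)⁻¹ = t * (y * v * y⁻¹) * t⁻¹ := by group
        _ = y * (t * v * t⁻¹) * y⁻¹ := e1
        _ = (y * t) * v * (y * t)⁻¹ := by group
    calc v * ((t * y)⁻¹ * (y * t)) = (t * y)⁻¹ * ((t * y) * v * (t * y)⁻¹) * (y * t) := by group
      _ = (t * y)⁻¹ * ((y * t) * v * (y * t)⁻¹) * (y * t) := by rw [e2]
      _ = (t * y)⁻¹ * (y * t) * v := by group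
  have h4 : orderOf ((t : G ⧸ C) * (y : G ⧸ C)) = 2 * orderOf y := by
    have ht' : orderOf (t : G ⧸ C) = 2 := by
      rw [hord t, ht]
      rw [ht]
      exact (Nat.coprime_primes Nat.prime_two hr).mpr (Ne.symm hr2)
    rw [hcomm.orderOf_mul_eq_mul_orderOf_of_coprime, ht', hord y hyr]
    rw [ht', hord y hyr]
    exact (Nat.coprime_two_left).mpr hy
  have h5 : 2 * orderOf y ∣ orderOf (t * y) := by
    rw [← h4]
    exact orderOf_map_dvd (QuotientGroup.mk' C) (t * y)
  obtain ⟨k, hk⟩ := exists_pow_orderOf h5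
  exact ⟨_, hk⟩

/-- the normalizer of a nontrivial cyclic `r`-subgroup is solvable -/
theorem isSolvable_normalizer (h : Isolated G r) (hr : r.Prime) {Z : Subgroup G}
    (hZ : IsPGroup r Z) (hZ1 : Z ≠ ⊥) [IsCyclic Z] :
    Group.IsSolvable (normalizer (Z : Set G)) := by
  have : Fact r.Prime := ⟨hr⟩
  have hC := isPGroup_centralizer h hr hZ hZ1
  have h1 : Group.IsNilpotent (centralizer (Z : Set G)) := hC.isNilpotent
  have h2 : Group.IsSolvable (centralizer (Z : Set G)) := inferInstance
  have h3 : Group.IsSolvable (MulAut Z) := by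
    apply Group.isSolvable_of_comm
    intro a b
    apply (IsCyclic.mulAutMulEquiv Z).injective
    rw [map_mul, map_mul, mul_comm]
  have h4 : Group.IsSolvable ((centralizer (Z : Set G)).subgroupOf (normalizer (Z : Set G))) :=
    Group.isSolvable_of_isSolvable_injective
      (f := (((normalizer (Z : Set G)).subtype.comp
        ((centralizer (Z : Set G)).subgroupOf (normalizer (Z : Set G))).subtype).codRestrict
        (centralizer (Z : Set G)) (fun x => x.2))) (by
      intro x y hxy
      apply Subtype.ext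
      apply Subtype.ext
      have h5 := congrArg Subtype.val hxy
      exact h5)
  refine Group.isSolvable_of_ker_le_range
    ((centralizer (Z : Set G)).subgroupOf (normalizer (Z : Set G))).subtype
    (Subgroup.normalizerMonoidHom Z) ?_
  rw [Subgroup.normalizerMonoidHom_ker, Subgroup.range_subtype]

omit [Finite G] in
/-- a nontrivial solvable normal subgroup contains a nontrivial abelian normal subgroup -/
theorem exists_abelian_normal (K : Subgroup G) [hKn : K.Normal] (hK : Group.IsSolvable K)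
    (hK1 : K ≠ ⊥) :
    ∃ A : Subgroup G, A.Normal ∧ A ≤ K ∧ A ≠ ⊥ ∧ ∀ a ∈ A, ∀ b ∈ A, a * b = b * a := by
  classical
  obtain ⟨n, hn⟩ := hK.solvable
  have hex : ∃ n, derivedSeries K n = ⊥ := ⟨n, hn⟩
  have h1 := Nat.find_spec hex
  have h0 : Nat.find hex ≠ 0 := by
    intro h0
    rw [h0, derivedSeries_zero] at h1
    apply hK1
    rw [eq_bot_iff]
    intro x hx
    have : (⟨x, hx⟩ : K) ∈ (⊤ : Subgroup K) := mem_top _
    rw [h1, mem_bot] at this
    exact congrArg Subtype.val this
  obtain ⟨m, hm⟩ : ∃ m, Nat.find hex = m + 1 := ⟨_, (Nat.succ_pred_eq_of_ne_zero h0).symm⟩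
  have h2 : derivedSeries K m ≠ ⊥ := Nat.find_min hex (by omega)
  rw [hm, derivedSeries_succ] at h1
  refine ⟨(derivedSeries K m).map K.subtype, inferInstance, map_subtype_le _, ?_, ?_⟩
  · intro h3
    apply h2
    rwa [Subgroup.map_eq_bot_iff_of_injective _ K.subtype_injective] at h3
  · rintro _ ⟨a, ha, rfl⟩ _ ⟨b, hb, rfl⟩
    have h3 : ⁅a, b⁆ ∈ ⁅derivedSeries K m, derivedSeries K m⁆ := commutator_mem_commutator ha hb
    rw [h1, mem_bot, commutatorElement_eq_one_iff_mul_comm] at h3
    rw [← map_mul, h3, map_mul]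

/-- **Odd isolated primes dividing the order of a solvable normal subgroup** of a nonsolvable group: there
is a nontrivial normal abelian `r`-subgroup. -/
theorem exists_normal_of_dvd (h : Isolated G r) (hr : r.Prime) (hG : ¬ Group.IsSolvable G)
    (K : Subgroup G) [hKn : K.Normal] (hK : Group.IsSolvable K) (hrK : r ∣ Nat.card K) :
    ∃ V : Subgroup G, V.Normal ∧ IsPGroup r V ∧ V ≠ ⊥ ∧ ∀ a ∈ V, ∀ b ∈ V, a * b = b * a := by
  have hfr : Fact r.Prime := ⟨hr⟩
  have hK1 : K ≠ ⊥ := by
    rintro rfl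
    rw [card_bot] at hrK
    exact hr.one_lt.ne' (Nat.dvd_one.mp hrK)
  obtain ⟨A, hAn, hAK, hA1, hAab⟩ := exists_abelian_normal K hK hK1
  by_cases hrA : r ∣ Nat.card A
  · -- the elements of `A` of order dividing `r`
    let V : Subgroup G :=
      { carrier := {a | a ∈ A ∧ a ^ r = 1}
        one_mem' := ⟨A.one_mem, one_pow r⟩
        mul_mem' := by
          rintro a b ⟨ha, ha'⟩ ⟨hb, hb'⟩
          refine ⟨A.mul_mem ha hb, ?_⟩
          rw [(show Commute a b from hAab a ha b hb).mul_pow, ha', hb', one_mul]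
        inv_mem' := by
          rintro a ⟨ha, ha'⟩
          exact ⟨A.inv_mem ha, by rw [inv_pow, ha', inv_one]⟩ }
    refine ⟨V, ⟨?_⟩, ?_, ?_, ?_⟩
    · rintro a ⟨ha, ha'⟩ g
      refine ⟨hAn.conj_mem a ha g, ?_⟩
      rw [conj_pow, ha']; group
    · rintro ⟨a, ha, ha'⟩
      exact ⟨1, by rw [pow_one]; exact Subtype.ext ha'⟩
    · intro hV
      obtain ⟨⟨x, hxA⟩, hx⟩ := exists_prime_orderOf_dvd_card' r hrA
      have hx' : orderOf x = r := by rw [← hx, ← Subgroup.orderOf_coe]
      have : x ∈ V := ⟨hxA, by rw [← hx', pow_orderOf_eq_one]⟩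
      rw [hV, mem_bot] at this
      rw [this, orderOf_one] at hx'
      exact hr.one_lt.ne hx'
    · rintro a ⟨ha, _⟩ b ⟨hb, _⟩
      exact hAab a ha b hb
  · exfalso
    -- a Sylow `r`-subgroup of `K` and its centre
    let R : Sylow r K := default
    obtain ⟨R', hR'⟩ : ∃ R', R' = (R : Subgroup K).map K.subtype := ⟨_, rfl⟩
    have hRp : IsPGroup r R' := by rw [hR']; exact R.2.map _
    have hR1 : R' ≠ ⊥ := by
      rw [hR', Ne, Subgroup.map_eq_bot_iff_of_injective _ K.subtype_injective]
      exact R.ne_bot_of_dvd_card hrK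
    obtain ⟨Z, hZ⟩ : ∃ Z, Z = (center R').map R'.subtype := ⟨_, rfl⟩
    have hZR : Z ≤ R' := by rw [hZ]; exact map_subtype_le _
    have hZp : IsPGroup r Z := hRp.to_le hZR
    have hZ1 : Z ≠ ⊥ := by
      rw [hZ, Ne, Subgroup.map_eq_bot_iff_of_injective _ R'.subtype_injective]
      have : Nontrivial R' := (Subgroup.nontrivial_iff_ne_bot R').mpr hR1
      exact (hRp.bot_lt_center).ne'
    have hZab : ∀ a ∈ Z, ∀ b ∈ Z, a * b = b * a := by
      rw [hZ]
      rintro _ ⟨a, ha, rfl⟩ _ ⟨b, hb, rfl⟩
      rw [← map_mul, ← map_mul]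
      congr 1
      exact (mem_center_iff.mp ha b).symm
    have hZc : IsCyclic Z := by
      have hab : IsMulCommutative A := ⟨⟨fun a b => Subtype.ext (hAab a a.2 b b.2)⟩⟩
      have habZ : IsMulCommutative Z := ⟨⟨fun a b => Subtype.ext (hZab a a.2 b b.2)⟩⟩
      refine S0041.result Z A hA1 (by rw [normalizer_eq_top]; exact le_top) ?_ (Or.inl habZ)
      intro a ha ha1
      rw [eq_bot_iff]
      rintro v ⟨hvA, hvc⟩
      rw [mem_bot]
      have h1 : Commute a v := mem_centralizer_iff.mp hvc a rfl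
      by_contra hv1
      obtain ⟨k, hk⟩ := (IsPGroup.iff_orderOf.mp hZp) ⟨a, ha⟩
      have hk' : orderOf a = r ^ k := by rw [← hk, ← Subgroup.orderOf_coe]
      have hk0 : k ≠ 0 := by
        rintro rfl
        rw [pow_zero, orderOf_eq_one_iff] at hk'
        exact ha1 hk'
      obtain ⟨j, hj⟩ := exists_pow_orderOf (g := a) (m := r) (by rw [hk']; exact dvd_pow_self r hk0)
      apply hv1
      apply eq_one_of_commute' h hr hj (h1.pow_left j)
      intro hd
      exact hrA (hd.trans ((Subgroup.orderOf_coe (⟨v, hvA⟩ : A)).symm ▸ orderOf_dvd_natCard _))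
    have hsol := isSolvable_normalizer h hr hZp hZ1
    -- the normalizer of `R'` normalizes `Z`
    have hle : normalizer (R' : Set G) ≤ normalizer (Z : Set G) := by
      rw [le_normalizer_iff]
      intro g hg z hz
      rw [hZ] at hz ⊢
      obtain ⟨⟨z, hzR⟩, hzc, rfl⟩ := hz
      refine ⟨⟨g * z * g⁻¹, (mem_normalizer_iff.mp hg z).mp hzR⟩, ?_, rfl⟩
      rw [SetLike.mem_coe, mem_center_iff]
      rintro ⟨b, hb⟩
      apply Subtype.ext
      show b * (g * z * g⁻¹) = g * z * g⁻¹ * b
      have hb' : g⁻¹ * b * g ∈ R' := by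
        have := (mem_normalizer_iff.mp (inv_mem hg) b).mp hb
        rwa [inv_inv] at this
      have h1 : (g⁻¹ * b * g) * z = z * (g⁻¹ * b * g) :=
        congrArg Subtype.val (mem_center_iff.mp hzc ⟨_, hb'⟩)
      calc b * (g * z * g⁻¹) = g * ((g⁻¹ * b * g) * z) * g⁻¹ := by group
        _ = g * (z * (g⁻¹ * b * g)) * g⁻¹ := by rw [h1]
        _ = g * z * g⁻¹ * b := by group
    have hfrat : normalizer (R' : Set G) ⊔ K = ⊤ := by
      rw [hR']
      exact Sylow.normalizer_sup_eq_top R
    have htop : normalizer (Z : Set G) ⊔ K = ⊤ := by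
      rw [eq_top_iff, ← hfrat]
      exact sup_le_sup_right hle K
    apply hG
    have h5 : Group.IsSolvable (G ⧸ K) := by
      refine Group.isSolvable_of_surjective
        (f := (QuotientGroup.mk' K).comp (normalizer (Z : Set G)).subtype) ?_
      intro x
      obtain ⟨x, rfl⟩ := QuotientGroup.mk'_surjective K x
      have hx : x ∈ normalizer (Z : Set G) ⊔ K := htop ▸ mem_top x
      obtain ⟨y, hy, k, hk, rfl⟩ := mem_sup_of_normal_right.mp hx
      refine ⟨⟨y, hy⟩, ?_⟩
      show (QuotientGroup.mk' K) y = (QuotientGroup.mk' K) (y * k)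
      rw [map_mul, (QuotientGroup.eq_one_iff k).mpr hk |> fun e => (show QuotientGroup.mk' K k = 1 from e),
        mul_one]
    exact (Group.isSolvable_iff_subgroup_quotient K).mpr ⟨hK, h5⟩

end Basic

section Radical

variable {G : Type*} [Group G] [Finite G] {r : ℕ}

omit [Finite G] in
/-- the quotient by the solvable radical has no nontrivial solvable normal subgroup -/
theorem eq_bot_of_isSolvable {K : Subgroup G} [K.Normal] (hKs : Group.IsSolvable K)
    (hKmax : ∀ N : Subgroup G, N.Normal → Group.IsSolvable N → N ≤ K) (N : Subgroup (G ⧸ K))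
    [hNn : N.Normal] (hN : Group.IsSolvable N) : N = ⊥ := by
  obtain ⟨L, hL⟩ : ∃ L, L = N.comap (QuotientGroup.mk' K) := ⟨_, rfl⟩
  have hLn : L.Normal := by rw [hL]; infer_instance
  have hLs : Group.IsSolvable L := by
    let φ : L →* N := ((QuotientGroup.mk' K).comp L.subtype).codRestrict N (by
      rintro ⟨x, hx⟩
      rw [hL] at hx
      exact hx)
    have hker : φ.ker ≤ (K.subgroupOf L).subtype.range := by
      rintro ⟨x, hx⟩ hxk
      rw [Subgroup.range_subtype, mem_subgroupOf]
      have h1 := congrArg Subtype.val (MonoidHom.mem_ker.mp hxk)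
      exact (QuotientGroup.eq_one_iff x).mp h1
    have hKL : Group.IsSolvable (K.subgroupOf L) :=
      Group.isSolvable_of_isSolvable_injective
        (f := ((L.subtype.comp (K.subgroupOf L).subtype).codRestrict K (fun x => x.2))) (by
        intro x y hxy
        apply Subtype.ext
        apply Subtype.ext
        have h5 := congrArg Subtype.val hxy
        exact h5)
    exact Group.isSolvable_of_ker_le_range (K.subgroupOf L).subtype φ hker
  have h1 := hKmax L hLn hLs
  rw [eq_bot_iff]
  intro x hx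
  obtain ⟨x, rfl⟩ := QuotientGroup.mk'_surjective K x
  have h2 : x ∈ L := by rw [hL]; exact hx
  rw [mem_bot]
  exact (QuotientGroup.eq_one_iff x).mpr (h1 h2)

/-- **Reduction for one isolated prime.** -/
theorem main {K : Subgroup G} [K.Normal] (hKs : Group.IsSolvable K)
    (hKmax : ∀ N : Subgroup G, N.Normal → Group.IsSolvable N → N ≤ K)
    (h : Isolated G r) (hr : r.Prime) (hr2 : r ≠ 2) (hrG : r ∣ Nat.card G)
    (h2 : 2 ∣ Nat.card G) (hG : ¬ Group.IsSolvable G) (y : G) (hy : Odd (orderOf y))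
    (hyr : (orderOf y).Coprime r) (h2y : ∀ g : G, orderOf g ≠ 2 * orderOf y) :
    ¬ r ∣ Nat.card K ∧ Group.IsNilpotent K ∧
      ∃ M : Subgroup (G ⧸ K), M.Normal ∧ IsSimpleGroup M ∧ ¬ IsMulCommutative M ∧
        r ∣ Nat.card M ∧ centralizer (M : Set (G ⧸ K)) = ⊥ ∧
        ∀ N : Subgroup (G ⧸ K), N.Normal → N ≠ ⊥ → M ≤ N := by
  have hfr : Fact r.Prime := ⟨hr⟩
  have hrK : ¬ r ∣ Nat.card K := by
    intro hrK
    obtain ⟨V, hVn, hVp, hV1, hVab⟩ := exists_normal_of_dvd h hr hG K hKs hrK
    obtain ⟨g, hg⟩ := exists_orderOf_two_mul h hr hr2 h2 hVp hV1 hVab y hy hyr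
    exact h2y g hg
  refine ⟨hrK, isNilpotent_of_normal h hr hrG K hrK, ?_⟩
  have hQ := h.quotient K
  have hrQ : r ∣ Nat.card (G ⧸ K) := by
    have h1 := Subgroup.card_eq_card_quotient_mul_card_subgroup K
    rw [h1] at hrG
    exact (hr.dvd_mul.mp hrG).resolve_right hrK
  have hsol : ∀ N : Subgroup (G ⧸ K), N.Normal → Group.IsSolvable N → N = ⊥ := fun N hNn hN =>
    eq_bot_of_isSolvable hKs hKmax N hN
  -- every nontrivial normal subgroup has order divisible by `r` and another prime
  have hdvd : ∀ N : Subgroup (G ⧸ K), N.Normal → N ≠ ⊥ → r ∣ Nat.card N := by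
    intro N hNn hN1
    by_contra hcon
    apply hN1
    have := isNilpotent_of_normal hQ hr hrQ N hcon
    exact hsol N hNn inferInstance
  have hdvd' : ∀ N : Subgroup (G ⧸ K), N.Normal → N ≠ ⊥ →
      ∃ s : ℕ, s.Prime ∧ s ≠ r ∧ s ∣ Nat.card N := by
    intro N hNn hN1
    by_contra hcon
    push Not at hcon
    apply hN1
    have h1 : Nat.card N = r ^ (Nat.card N).primeFactorsList.length := by
      apply Nat.eq_prime_pow_of_unique_prime_dvd Nat.card_pos.ne'
      intro s hs hsN
      by_contra hsr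
      exact hcon s hs hsr hsN
    have h2 : IsPGroup r N := IsPGroup.of_card h1
    have h3 : Group.IsNilpotent N := h2.isNilpotent
    exact hsol N hNn inferInstance
  -- two of them do not commute
  have hnc : ∀ M N : Subgroup (G ⧸ K), M.Normal → N.Normal → M ≠ ⊥ → N ≠ ⊥ →
      ¬ ∀ x ∈ M, ∀ z ∈ N, x * z = z * x := by
    intro M N hM hN hM1 hN1 hc
    obtain ⟨s, hs, hsr, hsN⟩ := hdvd' N hN hN1
    have hfs : Fact s.Prime := ⟨hs⟩
    obtain ⟨⟨x, hxM⟩, hx⟩ := exists_prime_orderOf_dvd_card' r (hdvd M hM hM1)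
    obtain ⟨⟨z, hzN⟩, hz⟩ := exists_prime_orderOf_dvd_card' s hsN
    have hx' : orderOf x = r := by rw [← hx, ← Subgroup.orderOf_coe]
    have hz' : orderOf z = s := by rw [← hz, ← Subgroup.orderOf_coe]
    have h1 := eq_one_of_commute' hQ hr hx' (show Commute x z from hc x hxM z hzN) (by
      rw [hz']
      intro hd
      exact hsr ((Nat.prime_dvd_prime_iff_eq hr hs).mp hd).symm)
    rw [h1, orderOf_one] at hz'
    exact hs.one_lt.ne hz'
  have hnt : (⊤ : Subgroup (G ⧸ K)) ≠ ⊥ := by
    intro h1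
    have h3 : Nat.card (G ⧸ K) = 1 := by
      rw [← Subgroup.card_top, h1, Subgroup.card_bot]
    rw [h3] at hrQ
    exact hr.one_lt.ne' (Nat.dvd_one.mp hrQ)
  obtain ⟨M, -, hM1, hMn, hMmin⟩ := Cfsg.Agent.Lib.MinNormal.exists_minimal_normal_le
    (⊤ : Subgroup (G ⧸ K)) hnt
  have hMnorm : M.Normal := normalizer_eq_top_iff.mp (top_le_iff.mp hMn)
  have hMmin' : ∀ L : Subgroup (G ⧸ K), L.Normal → L ≤ M → L = ⊥ ∨ L = M := fun L hL hLM =>
    hMmin L hLM (by rw [normalizer_eq_top_iff.mpr hL])
  have hMns : ¬ Group.IsSolvable M := fun hs => hM1 (hsol M hMnorm hs)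
  have hMna : ¬ IsMulCommutative M := by
    intro hc
    apply hMns
    exact Group.isSolvable_of_comm (fun a b => hc.is_comm.comm a b)
  refine ⟨M, hMnorm, ?_, hMna, hdvd M hMnorm hM1, ?_, ?_⟩
  · -- simplicity
    obtain ⟨T, m, _, hT, hm, ⟨e⟩⟩ := Cfsg.Agent.Lib.MinNormal.exists_mulEquiv_pi M hM1 hMmin'
    have hT := hT
    rcases Nat.lt_or_ge m 2 with hm2 | hm2
    · have hm1 : m = 1 := by omega
      subst hm1
      exact (e.trans (MulEquiv.funUnique (Fin 1) T)).isSimpleGroup
    · exfalso
      have hTfin : Finite T := by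
        have : Finite (Fin m → T) := Finite.of_equiv M e.toEquiv
        exact Finite.of_injective (fun t : T => (fun _ : Fin m => t)) (fun a b hab =>
          congrFun hab ⟨0, by omega⟩)
      have hcard : Nat.card M = Nat.card T ^ m := by
        rw [Nat.card_congr e.toEquiv, Nat.card_fun]
        simp
      have hrT : r ∣ Nat.card T := by
        have := hdvd M hMnorm hM1
        rw [hcard] at this
        exact hr.dvd_of_dvd_pow this
      obtain ⟨s, hs, hsr, hsM⟩ := hdvd' M hMnorm hM1
      rw [hcard] at hsM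
      have hsT := hs.dvd_of_dvd_pow hsM
      have hfs : Fact s.Prime := ⟨hs⟩
      obtain ⟨a, ha⟩ := exists_prime_orderOf_dvd_card' r hrT
      obtain ⟨b, hb⟩ := exists_prime_orderOf_dvd_card' s hsT
      let i : Fin m := ⟨0, by omega⟩
      let j : Fin m := ⟨1, by omega⟩
      have hij : i ≠ j := by
        intro hij
        have := congrArg Fin.val hij
        simp [i, j] at this
      have hord : ∀ (k : Fin m) (t : T), orderOf (Pi.mulSingle k t : Fin m → T) = orderOf t := by
        intro k t
        exact orderOf_injective (MonoidHom.mulSingle (fun _ : Fin m => T) k)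
          (Pi.mulSingle_injective (M := fun _ : Fin m => T) k) t
      have hc : Commute (Pi.mulSingle i a : Fin m → T) (Pi.mulSingle j b : Fin m → T) :=
        Pi.mulSingle_commute (f := fun _ : Fin m => T) hij a b
      have hQ' : Isolated (Fin m → T) r :=
        hQ.of_injective (M.subtype.comp e.symm.toMonoidHom)
          (M.subtype_injective.comp e.symm.injective)
      have h1 := eq_one_of_commute' hQ' hr ((hord i a).trans ha) hc (by
        rw [hord, hb]
        intro hd
        exact hsr ((Nat.prime_dvd_prime_iff_eq hr hs).mp hd).symm)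
      have h2 : orderOf (Pi.mulSingle j b : Fin m → T) = 1 := by rw [h1, orderOf_one]
      rw [hord, hb] at h2
      exact hs.one_lt.ne' h2
  · by_contra hcon
    exact hnc M (centralizer (M : Set (G ⧸ K))) hMnorm inferInstance hM1 hcon
      (fun x hx z hz => mem_centralizer_iff.mp hz x hx)
  · intro N hN hN1
    have h1 : M ⊓ N ≠ ⊥ := by
      intro h1
      apply hnc M N hMnorm hN hM1 hN1
      intro x hx z hz
      have h3 : ⁅x, z⁆ ∈ M ⊓ N := by
        refine ⟨?_, ?_⟩
        · show x * z * x⁻¹ * z⁻¹ ∈ M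
          have : x * z * x⁻¹ * z⁻¹ = x * (z * x⁻¹ * z⁻¹) := by group
          rw [this]
          exact M.mul_mem hx (hMnorm.conj_mem _ (M.inv_mem hx) z)
        · show x * z * x⁻¹ * z⁻¹ ∈ N
          exact N.mul_mem (hN.conj_mem z hz x) (N.inv_mem hz)
      rw [h1, mem_bot, commutatorElement_eq_one_iff_mul_comm] at h3
      exact h3
    rcases hMmin' (M ⊓ N) inferInstance inf_le_left with h3 | h3
    · exact absurd h3 h1
    · rw [← h3]
      exact inf_le_right

end Radical

end Cfsg.Agent.H455.Isolated
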