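import Cfsg.Agent.H127.UnitSinger

/-!
# Elements of order 12 in `PSU₄(3)` and of order 15 in `PSU₆(2)` (helper455)
-/

set_option autoImplicit false

namespace Cfsg.Agent.H455.ElemU

open Matrix Cfsg.Agent.H127.UnitRoots Cfsg.Agent.H127.UnitSinger Cfsg.Agent.H186

section three

variable {F : Type*} [Field F] [Fintype F]

/-- the matrix -/
def A4 (i : F) : Matrix (Fin 4) (Fin 4) F := !![1, i, 0, 0; 0, 1, 0, 0; 0, 0, i, 0; 0, 0, 0, -i]

/-- the form -/
def X4 (F : Type*) [Field F] : Matrix (Fin 4) (Fin 4) F := !![0, 1, 0, 0; 1, 0, 0, 0; 0, 0, 1, 0; 0, 0, 0, 1]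

omit [Fintype F] in
theorem A4_pow (i : F) (k : ℕ) :
    A4 i ^ k = !![1, k * i, 0, 0; 0, 1, 0, 0; 0, 0, i ^ k, 0; 0, 0, 0, (-i) ^ k] := by
  induction k with
  | zero =>
    ext a b
    fin_cases a <;> fin_cases b <;> simp
  | succ k ih =>
    rw [pow_succ, ih]
    ext a b
    fin_cases a <;> fin_cases b <;> simp [A4, Matrix.mul_apply, Fin.sum_univ_four, pow_succ]
    ring

theorem exists_twelve (hF : Fintype.card F = 9) : ∃ z : Cfsg.PSU 4 F 3, orderOf z = 12 := by
  have hF' : Fintype.card F = 3 ^ 2 := by rw [hF]; norm_num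
  obtain ⟨i, hi⟩ : IsSquare (-1 : F) := by
    rw [FiniteField.isSquare_neg_one_iff, hF]
    norm_num
  have hi : i * i = -1 := hi.symm
  have h3 : (3 : F) = 0 := by
    have := FiniteField.cast_card_eq_zero F
    rw [hF] at this
    have h9 : (3 : F) ^ 2 = 0 := by
      rw [← this]; norm_num
    exact pow_eq_zero_iff two_ne_zero |>.1 h9
  have hchar : CharP F 3 := by
    have : ringChar F ∣ 3 := (ringChar.spec F 3).1 (by exact_mod_cast h3)
    rcases (Nat.dvd_prime Nat.prime_three).1 this with h | h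
    · exact absurd h (CharP.ringChar_ne_one)
    · exact h ▸ ringChar.charP F
  have hi3 : i ^ 3 = -i := by
    calc i ^ 3 = (i * i) * i := by ring
      _ = -i := by rw [hi]; ring
  have hi0 : i ≠ 0 := by
    rintro rfl
    rw [mul_zero] at hi
    exact neg_ne_zero.2 one_ne_zero hi.symm
  refine exists_order hF' (by norm_num) (A4 i) (X4 F) ?_ ?_ ?_ (N := 12) ?_ 12 dvd_rfl
  · rw [Matrix.isUnit_iff_isUnit_det]
    have : (X4 F).det = -1 := by
      simp [X4, Matrix.det_succ_row_zero, Fin.sum_univ_succ, Fin.succAbove]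
    rw [this]
    exact isUnit_one.neg
  · simp [A4, Matrix.det_succ_row_zero, Fin.sum_univ_succ, Fin.succAbove]
    rw [hi]; ring
  · have hni3 : (-i) ^ 3 = i := by
      calc (-i) ^ 3 = -(i ^ 3) := by ring
        _ = i := by rw [hi3]; ring
    have hst : st 3 (A4 i) = !![1, 0, 0, 0; -i, 1, 0, 0; 0, 0, -i, 0; 0, 0, 0, i] := by
      ext a b
      fin_cases a <;> fin_cases b <;> simp [st, A4, Matrix.transpose_apply, hi3, hni3]
    rw [hst]
    ext a b
    fin_cases a <;> fin_cases b <;> simp [A4, X4, Matrix.mul_apply, Fin.sum_univ_four, hi]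
  · intro k c hk
    rw [A4_pow] at hk
    have h00 := congrFun (congrFun hk 0) 0
    have h01 := congrFun (congrFun hk 0) 1
    have h22 := congrFun (congrFun hk 2) 2
    simp at h00 h01 h22
    rw [← h00] at h22
    have hk3 : 3 ∣ k := by
      rcases h01 with h | h
      · exact (CharP.cast_eq_zero_iff F 3 k).1 h
      · exact absurd h hi0
    have hk4 : 4 ∣ k := by
      have ho : orderOf i = 4 := by
        have h2 : i ^ 2 ^ 1 ≠ 1 := by
          intro h
          rw [pow_one, pow_two, hi] at h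
          have : (2 : F) = 0 := by
            have : (1 : F) + 1 = 0 := by nth_rewrite 1 [← h]; ring
            rwa [one_add_one_eq_two] at this
          have h1 : (1 : F) = 0 := by
            have : (3 : F) - 2 = 0 := by rw [this, h3]; ring
            have h5 : (3 : F) - 2 = 1 := by norm_num
            rw [h5] at this
            exact this
          exact one_ne_zero h1
        have h4 : i ^ 2 ^ 2 = 1 := by
          calc i ^ 2 ^ 2 = (i * i) * (i * i) := by ring
            _ = 1 := by rw [hi]; ring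
        exact orderOf_eq_prime_pow h2 h4
      rw [← ho]
      exact orderOf_dvd_of_pow_eq_one h22
    exact Nat.Coprime.mul_dvd_of_dvd_of_dvd (by norm_num : Nat.Coprime 3 4) hk3 hk4

end three

section two

variable {F : Type*} [Field F] [Fintype F]

theorem exists_omega (hF : Fintype.card F = 4) : ∃ w : F, w ^ 2 = w + 1 ∧ w ≠ 0 ∧ w ≠ 1 ∧ (2 : F) = 0 := by
  have h4 : (4 : F) = 0 := by
    have := FiniteField.cast_card_eq_zero F
    rw [hF] at this
    exact_mod_cast this
  have h2 : (2 : F) = 0 := by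
    have : (2 : F) ^ 2 = 0 := by rw [← h4]; norm_num
    exact pow_eq_zero_iff two_ne_zero |>.1 this
  have hw : ∃ w : F, w ≠ 0 ∧ w ≠ 1 := by
    classical
    by_contra hcon
    push Not at hcon
    have h1 : (Finset.univ : Finset F) ⊆ {0, 1} := by
      intro x _
      by_cases hx : x = 0
      · simp [hx]
      · simp [hcon x hx]
    have h3 := Finset.card_le_card h1
    have h5 : ({0, 1} : Finset F).card ≤ 2 := Finset.card_le_two
    rw [Finset.card_univ, hF] at h3
    omega
  obtain ⟨w, hw0, hw1⟩ := hw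
  refine ⟨w, ?_, hw0, hw1, h2⟩
  have h5 : w ^ 3 = 1 := by
    have := FiniteField.pow_card_sub_one_eq_one w hw0
    rwa [hF] at this
  have h6 : (w - 1) * (w ^ 2 + w + 1) = 0 := by
    calc (w - 1) * (w ^ 2 + w + 1) = w ^ 3 - 1 := by ring
      _ = 0 := by rw [h5]; ring
  have h7 : w ^ 2 + w + 1 = 0 := by
    rcases mul_eq_zero.1 h6 with h | h
    · exact absurd (sub_eq_zero.1 h) hw1
    · exact h
  calc w ^ 2 = (w ^ 2 + w + 1) - (w + 1) := by ring
    _ = 0 - (w + 1) := by rw [h7]
    _ = (w + 1) - 2 * (w + 1) := by ring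
    _ = w + 1 := by rw [h2]; ring

/-- the matrix -/
def A6 (w v : F) : Matrix (Fin 6) (Fin 6) F :=
  !![0, 1, 0, 0, 0, 0; 1, w, 0, 0, 0, 0; 0, 0, v, 1, 0, 0; 0, 0, 1, 0, 0, 0; 0, 0, 0, 0, w, 0; 0, 0, 0, 0, 0, v]

/-- the form -/
def X6 (F : Type*) [Field F] : Matrix (Fin 6) (Fin 6) F :=
  !![0, 0, 1, 0, 0, 0; 0, 0, 0, 1, 0, 0; 1, 0, 0, 0, 0, 0; 0, 1, 0, 0, 0, 0; 0, 0, 0, 0, 1, 0; 0, 0, 0, 0, 0, 1]

set_option maxHeartbeats 1000000 in
theorem exists_fifteen (hF : Fintype.card F = 4) : ∃ z : Cfsg.PSU 6 F 2, orderOf z = 15 := by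
  have hF' : Fintype.card F = 2 ^ 2 := by rw [hF]; norm_num
  obtain ⟨w, hw, hw0, hw1, h2⟩ := exists_omega hF
  obtain ⟨v, hv⟩ : ∃ v, v = w + 1 := ⟨_, rfl⟩
  have h11 : (1 : F) + 1 = 0 := by rw [one_add_one_eq_two]; exact h2
  have hww : w * w = v := by rw [hv, ← hw, sq]
  have hwa : w + w = 0 := by rw [← two_mul, h2, zero_mul]
  have hva : v + v = 0 := by rw [← two_mul, h2, zero_mul]
  have hw1a : w + 1 = v := hv.symm
  have hv1 : v + 1 = w := by rw [hv, add_assoc, h11, add_zero]
  have h1v : 1 + v = w := by rw [add_comm]; exact hv1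
  have hwv' : w + v = 1 := by rw [hv, ← add_assoc, hwa, zero_add]
  have hvw' : v + w = 1 := by rw [add_comm]; exact hwv'
  have hwv : w * v = 1 := by rw [hv, mul_add, mul_one, hww]; exact hvw'
  have hvw : v * w = 1 := by rw [mul_comm]; exact hwv
  have hvv : v * v = w := by
    rw [← hww]
    calc w * w * (w * w) = w * (w * w) * w := by ring
      _ = w * v * w := by rw [hww]
      _ = w := by rw [hwv, one_mul]
  have hneg : (-1 : F) = 1 := by
    rw [neg_eq_iff_add_eq_zero]
    exact h11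
  have hv0 : v ≠ 0 := by
    intro h
    rw [h, mul_zero] at hwv
    exact zero_ne_one hwv
  have hA2 : A6 w v * A6 w v = !![1, w, 0, 0, 0, 0; w, w, 0, 0, 0, 0; 0, 0, v, v, 0, 0; 0, 0, v, 1, 0, 0;
      0, 0, 0, 0, v, 0; 0, 0, 0, 0, 0, w] := by
    ext a b
    fin_cases a <;> fin_cases b <;>
      simp [A6, Matrix.mul_apply, Fin.sum_univ_six, hww, hvv, h1v, hw1a]
  have hA3 : A6 w v * A6 w v * A6 w v = !![w, w, 0, 0, 0, 0; w, 1, 0, 0, 0, 0; 0, 0, 1, v, 0, 0; 0, 0, v, v, 0, 0;
      0, 0, 0, 0, 1, 0; 0, 0, 0, 0, 0, 1] := by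
    rw [hA2]
    ext a b
    fin_cases a <;> fin_cases b <;>
      simp [A6, Matrix.mul_apply, Fin.sum_univ_six, hww, hvv, h1v, hw1a, hwv, hvw, hwv']
  have hA5 : A6 w v ^ 5 = !![1, 0, 0, 0, 0, 0; 0, 1, 0, 0, 0, 0; 0, 0, 1, 0, 0, 0; 0, 0, 0, 1, 0, 0;
      0, 0, 0, 0, v, 0; 0, 0, 0, 0, 0, w] := by
    have : A6 w v ^ 5 = (A6 w v * A6 w v * A6 w v) * (A6 w v * A6 w v) := by
      simp only [pow_succ, pow_zero, one_mul, mul_assoc]
    rw [this, hA3, hA2]
    ext a b
    fin_cases a <;> fin_cases b <;>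
      simp [Matrix.mul_apply, Fin.sum_univ_six, hww, hvv, hwa, hva, hwv', hvw']
  have hA3' : A6 w v ^ 3 = A6 w v * A6 w v * A6 w v := by
    simp only [pow_succ, pow_zero, one_mul]
  have hA15 : A6 w v ^ 15 = 1 := by
    have : A6 w v ^ 15 = A6 w v ^ 5 * A6 w v ^ 5 * A6 w v ^ 5 := by
      rw [← pow_add, ← pow_add]
    rw [this, hA5]
    ext a b
    fin_cases a <;> fin_cases b <;>
      simp [Matrix.mul_apply, Fin.sum_univ_six, hvv, hww, hwv, hvw]
  refine exists_order hF' (by norm_num) (A6 w v) (X6 F) ?_ ?_ ?_ (N := 15) ?_ 15 dvd_rfl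
  · have : X6 F * X6 F = 1 := by
      ext a b
      fin_cases a <;> fin_cases b <;> simp [X6, Matrix.mul_apply, Fin.sum_univ_six]
    exact IsUnit.of_mul_eq_one _ this
  · have hA5d : A6 w v ^ 5 = Matrix.diagonal ![1, 1, 1, 1, v, w] := by
      rw [hA5]
      ext a b
      fin_cases a <;> fin_cases b <;> simp [Matrix.diagonal]
    have h15 : (A6 w v).det ^ 15 = 1 := by
      rw [← Matrix.det_pow, hA15, Matrix.det_one]
    have h5 : (A6 w v).det ^ 5 = 1 := by
      rw [← Matrix.det_pow, hA5d, Matrix.det_diagonal]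
      simp [Fin.prod_univ_six, hvw]
    have hd0 : (A6 w v).det ≠ 0 := by
      intro h
      rw [h] at h5
      norm_num at h5
    have h3 : (A6 w v).det ^ 3 = 1 := by
      have := FiniteField.pow_card_sub_one_eq_one _ hd0
      rwa [hF] at this
    calc (A6 w v).det = (A6 w v).det * ((A6 w v).det ^ 5) := by rw [h5, mul_one]
      _ = ((A6 w v).det ^ 3) * ((A6 w v).det ^ 3) := by ring
      _ = 1 := by rw [h3, one_mul]
  · have hw2 : w ^ 2 = v := by rw [sq, hww]
    have hv2 : v ^ 2 = w := by rw [sq, hvv]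
    have hst : st 2 (A6 w v) = !![0, 1, 0, 0, 0, 0; 1, v, 0, 0, 0, 0; 0, 0, w, 1, 0, 0; 0, 0, 1, 0, 0, 0;
        0, 0, 0, 0, v, 0; 0, 0, 0, 0, 0, w] := by
      ext a b
      fin_cases a <;> fin_cases b <;> simp [st, A6, Matrix.transpose_apply, hw2, hv2]
    rw [hst]
    ext a b
    fin_cases a <;> fin_cases b <;>
      simp [A6, X6, Matrix.mul_apply, Fin.sum_univ_six, hwv, hvw, hwa, hva]
  · intro k c hk
    have hc0 : c ≠ 0 := by
      rintro rfl
      rw [zero_smul] at hk
      have h1 := congrArg Matrix.det hk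
      rw [Matrix.det_pow, Matrix.det_zero] at h1
      have h3 : (A6 w v).det ^ 15 = 1 := by rw [← Matrix.det_pow, hA15, Matrix.det_one]
      rcases Nat.eq_zero_or_pos k with rfl | hk0
      · rw [pow_zero] at h1
        exact one_ne_zero h1
      · have h5 : (A6 w v).det = 0 := (pow_eq_zero_iff hk0.ne').1 h1
        rw [h5] at h3
        norm_num at h3
    have hc3 : c ^ 3 = 1 := by
      have := FiniteField.pow_card_sub_one_eq_one c hc0
      rwa [hF] at this
    have h5k : 5 ∣ k := by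
      have h1 : (A6 w v ^ 3) ^ k = 1 := by
        rw [← pow_mul, mul_comm, pow_mul, hk, smul_pow, one_pow, hc3, one_smul]
      have h3 : orderOf (A6 w v ^ 3) = 5 := by
        have : Fact (Nat.Prime 5) := ⟨by norm_num⟩
        apply orderOf_eq_prime
        · rw [← pow_mul]; exact hA15
        · intro h
          rw [hA3', hA3] at h
          have := congrFun (congrFun h 0) 0
          simp at this
          exact hw1 this
      rw [← h3]
      exact orderOf_dvd_of_pow_eq_one h1
    have h3k : 3 ∣ k := by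
      have h1 : (A6 w v ^ 5) ^ k = c ^ 5 • (1 : Matrix (Fin 6) (Fin 6) F) := by
        rw [← pow_mul, mul_comm, pow_mul, hk, smul_pow, one_pow]
      have hD : ∀ k : ℕ, (A6 w v ^ 5) ^ k = !![1, 0, 0, 0, 0, 0; 0, 1, 0, 0, 0, 0; 0, 0, 1, 0, 0, 0;
          0, 0, 0, 1, 0, 0; 0, 0, 0, 0, v ^ k, 0; 0, 0, 0, 0, 0, w ^ k] := by
        intro k
        rw [hA5]
        induction k with
        | zero =>
          ext a b
          fin_cases a <;> fin_cases b <;> simp
        | succ k ih =>
          rw [pow_succ, ih]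
          ext a b
          fin_cases a <;> fin_cases b <;> simp [Matrix.mul_apply, Fin.sum_univ_six, pow_succ]
      rw [hD] at h1
      have h00 := congrFun (congrFun h1 0) 0
      have h44 := congrFun (congrFun h1 5) 5
      simp at h00 h44
      rw [← h00] at h44
      have h3 : orderOf w = 3 := by
        have : Fact (Nat.Prime 3) := ⟨by norm_num⟩
        apply orderOf_eq_prime
        · calc w ^ 3 = w * w * w := by ring
            _ = 1 := by rw [hww, hvw]
        · exact hw1
      rw [← h3]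
      exact orderOf_dvd_of_pow_eq_one h44
    exact Nat.Coprime.mul_dvd_of_dvd_of_dvd (by norm_num : Nat.Coprime 3 5) h3k h5k

end two

end Cfsg.Agent.H455.ElemU
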