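import Cfsg.Agent.H455.RecBEleven
import Cfsg.Agent.H455.RecBFi
import Cfsg.Agent.H291.SCBaby
import Cfsg.Agent.H149.Sp.Baby
import Cfsg.Agent.H889.Rec.Known
import Cfsg.Agent.H58.Rec.Tools
import Cfsg.Agent.S2084

/-!
# S3484: the row of the Baby Monster (helper455)

The kernel: `23 : 11` kills 7, 11, 13, 17, 19, 31; `47 : 23` kills 5, 23; the centralizer `11 × S5` of an element of
order 11 kills 2, 3.
-/

set_option autoImplicit false
set_option Elab.async false
set_option maxRecDepth 100000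

namespace Cfsg.Agent.H455.RecB

open Cfsg Subgroup Cfsg.Agent.H58.Rec Cfsg.Agent.OrdDiv Cfsg.Agent.H436
open Cfsg.Agent.BpSpor.MBigModel (MG)
open Cfsg.Agent.H393.Iso (exists_lift lift_comm)

universe u v w

/-- the fixed points of the complement of a Frobenius group -/
theorem frob_fix {Y : Type u} {X : Type v} [Group Y] [Finite Y] [Group X] {τ : Y →* X} {p : ℕ} (h : Mod τ p)
    (hp : p.Prime) {q n : ℕ} (hq : q.Prime) (hqp : q ≠ p) (hF : HasFrob X q n) :
    ∃ c : X, orderOf c = n ∧ ∃ y : Y, τ y = c ∧ ∃ v ∈ τ.ker, v ≠ 1 ∧ y * v = v * y := by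
  classical
  obtain ⟨T, c, hT, hT1, hc, hn, hfree⟩ := hF
  refine ⟨c, hn, ?_⟩
  obtain ⟨T', d, hT'q, hT'm, hd, hdc⟩ := Cfsg.Agent.H413.FrobLift.exists_lift τ h.surj hq T hT hc
  have hfX : Finite X := Finite.of_surjective τ h.surj
  have hn0 : 0 < n := hn ▸ orderOf_pos c
  have hfq : Fact q.Prime := ⟨hq⟩
  have hker : d ^ n ∈ τ.ker := by
    rw [MonoidHom.mem_ker, map_pow, hdc, ← hn, pow_orderOf_eq_one]
  by_cases hd1 : d ^ n = 1
  · have htriv : ∀ a ∈ T', a ∈ τ.ker → a = 1 := by
      intro a ha hak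
      obtain ⟨k, hk⟩ := (IsPGroup.iff_orderOf.mp hT'q) ⟨a, ha⟩
      rw [Subgroup.orderOf_mk] at hk
      have h1 : orderOf a ∣ p := orderOf_dvd_of_pow_eq_one (h.pow a hak)
      rcases (Nat.dvd_prime hp).1 h1 with h2 | h2
      · exact orderOf_eq_one_iff.1 h2
      · exfalso
        rw [h2] at hk
        have h3 : p ∣ q ^ k := hk ▸ dvd_rfl
        exact hqp ((Nat.prime_dvd_prime_iff_eq hp hq).1 (hp.dvd_of_dvd_pow h3)).symm
    have hVn : τ.ker.Normal := inferInstance
    have := Fintype.ofFinite T'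
    let _ : CommGroup τ.ker :=
      { (inferInstance : Group τ.ker) with mul_comm := fun a b => Subtype.ext (h.comm a a.2 b b.2) }
    -- some norm is nontrivial
    have h1 : ∃ v : τ.ker, ∏ j ∈ Finset.range n, (MulAut.conjNormal (d ^ j) : MulAut τ.ker) v ≠ 1 := by
      by_contra hno
      push Not at hno
      obtain ⟨⟨t, ht⟩, ht1⟩ := (T.ne_bot_iff_exists_ne_one).1 hT1
      obtain ⟨a, ha, hat⟩ : ∃ a ∈ T', τ a = t := by
        rw [← hT'm] at ht
        exact ht
      have h2 : a ∈ centralizer (τ.ker : Set Y) := by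
        rw [mem_centralizer_iff]
        intro v hv
        have h3 := Cfsg.Agent.H413.FrobLift.norm_fix (MulAut.conjNormal (H := τ.ker)) T' d
          (fun n hn => (mem_normalizer_iff''.1 hd n).1 hn) n hn0 hno (by
            intro j h0 hj m hm h1
            apply htriv m hm
            rw [MonoidHom.mem_ker]
            apply hfree j h0 hj
            · rw [← hT'm]
              exact ⟨m, hm, rfl⟩
            · rw [← hdc, ← map_pow, ← map_mul, ← map_mul, h1]) ⟨v, hv⟩ a ha
        have hcop : (Nat.card T').Coprime p := by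
          obtain ⟨k, hk⟩ := IsPGroup.iff_card.1 hT'q
          rw [hk]
          exact Nat.Coprime.pow_left k ((Nat.coprime_primes hq hp).2 hqp)
        have hvs : (⟨v, hv⟩ : τ.ker) ^ p = 1 := Subtype.ext (h.pow v hv)
        obtain ⟨k, hk⟩ := exists_pow_eq_self_of_coprime (n := Nat.card T') (x := (⟨v, hv⟩ : τ.ker))
          (Nat.Coprime.coprime_dvd_right (orderOf_dvd_of_pow_eq_one hvs) hcop)
        have h4 : (MulAut.conjNormal (H := τ.ker) a) ⟨v, hv⟩ = ⟨v, hv⟩ := by
          conv_lhs => rw [← hk]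
          rw [map_pow, h3, hk]
        have h5 := congrArg Subtype.val h4
        rw [MulAut.conjNormal_apply] at h5
        have h6 : a * v * a⁻¹ = v := h5
        exact (mul_inv_eq_iff_eq_mul.1 h6).symm
      have h3 := h.cent h2
      rw [MonoidHom.mem_ker, hat] at h3
      exact ht1 (Subtype.ext h3)
    obtain ⟨v, hv⟩ := h1
    have hpow : ((v : Y) * d) ^ n = ((∏ j ∈ Finset.range n, (MulAut.conjNormal (d ^ j) : MulAut τ.ker) v : τ.ker) : Y) := by
      rw [Cfsg.Agent.H413.FrobLift.mul_pow_conj, hd1, mul_one, Finset.prod_eq_multiset_prod]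
      congr 1
    refine ⟨(v : Y) * d, ?_, ((v : Y) * d) ^ n, ?_, ?_, ?_⟩
    · rw [map_mul, hdc, (MonoidHom.mem_ker).1 v.2, one_mul]
    · rw [hpow]
      exact Subtype.property _
    · rw [hpow]
      intro h2
      exact hv (Subtype.ext h2)
    · exact ((Commute.refl ((v : Y) * d)).pow_right n).eq
  · exact ⟨d, hdc, d ^ n, hker, hd1, ((Commute.refl d).pow_right n).eq⟩

/-- the order of the Baby Monster -/
abbrev NB : ℕ := 4154781481226426191177580544000000

theorem card_B : Nat.card Spor.BabyMonster = NB := S1704.result.2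

theorem finB : Finite Spor.BabyMonster := CTwoTab.BInst.finite_B

/-- commuting elements of coprime orders of an element -/
theorem split {G : Type*} [Group G] [Finite G] {p m : ℕ} (hm : 0 < m) (hp : 0 < p) {g : G} (hg : orderOf g = p * m) :
    orderOf (g ^ m) = p ∧ orderOf (g ^ p) = m := by
  constructor
  · rw [orderOf_pow_of_dvd hm.ne' (by rw [hg]; exact dvd_mul_left m p), hg]
    exact Nat.mul_div_cancel _ hm
  · rw [orderOf_pow_of_dvd hp.ne' (by rw [hg]; exact dvd_mul_right p m), hg]
    exact Nat.mul_div_cancel_left _ hp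

/-- **Orders `11 m`.** -/
theorem eleven_no {m : ℕ} (hm : 6 < m) (h11 : ¬ 11 ∣ m) : ¬ HasOrd Spor.BabyMonster (11 * m) := by
  rintro ⟨g, hg⟩
  have hfin := finB
  obtain ⟨h1, h2⟩ := split (by omega) (by norm_num) hg
  obtain ⟨k, h0, h6, hk⟩ := comm_eleven h1 (v := g ^ 11) (((Commute.refl g).pow_left m).pow_right 11).eq
  obtain ⟨i, hi⟩ := mem_zpowers_iff.1 hk
  have h3 : ((g ^ 11) ^ k) ^ m = 1 := by rw [← pow_mul, mul_comm, pow_mul, ← h2, pow_orderOf_eq_one, one_pow]
  have h4 : ((g ^ 11) ^ k) ^ 11 = 1 := by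
    rw [← hi, ← zpow_natCast, ← zpow_mul, mul_comm, zpow_mul, zpow_natCast, ← h1, pow_orderOf_eq_one, one_zpow]
  have h5 : (g ^ 11) ^ k = 1 := by
    have h6 := Nat.dvd_gcd (orderOf_dvd_of_pow_eq_one h3) (orderOf_dvd_of_pow_eq_one h4)
    have h7 : Nat.gcd m 11 = 1 := ((Nat.Prime.coprime_iff_not_dvd prime11).2 h11).symm
    rw [h7] at h6
    exact orderOf_eq_one_iff.1 (Nat.dvd_one.1 h6)
  have h6' := orderOf_dvd_of_pow_eq_one h5
  rw [h2] at h6'
  have := Nat.le_of_dvd h0 h6'
  omega

/-- no elements of order 115 -/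
theorem no_115 : ¬ HasOrd Spor.BabyMonster (23 * 5) := by
  rintro ⟨g, hg⟩
  have hfin := finB
  have hfin' := finMG
  obtain ⟨h1, h2⟩ := split (by norm_num) (by norm_num) hg
  obtain ⟨τ, q, hC⟩ := exists_cov
  obtain ⟨b, hb, hbo⟩ := exists_lift hC.ext (p := 5) (by norm_num) (by norm_num) h2
  obtain ⟨c, hc, hco⟩ := exists_lift hC.ext (p := 23) (by norm_num) (by norm_num) h1
  have hbc : b * c = c * b := lift_comm hC.ext (p := 5) (by norm_num) (by norm_num) hbo (by
    rw [hb, hc]
    exact (((Commute.refl g).pow_left 23).pow_right 5).eq)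
  have hbM : orderOf (b : MG) = 5 := by rw [Subgroup.orderOf_coe, hbo]
  refine H199.AbMon.five_not_dvd' (r := 23) (by simp) hbM ?_
  have h3 : (c : MG) ∈ centralizer ({(b : MG)} : Set MG) :=
    mem_centralizer_singleton_iff.2 (congrArg Subtype.val hbc).symm
  have h4 := orderOf_dvd_natCard (⟨c, h3⟩ : ↥(centralizer ({(b : MG)} : Set MG)))
  rwa [Subgroup.orderOf_mk, Subgroup.orderOf_coe, hco] at h4

theorem no_sq {p : ℕ} (h : ¬ p * p ∣ NB) : ¬ HasOrd Spor.BabyMonster (p * p) := by
  rintro ⟨g, hg⟩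
  have h1 := orderOf_dvd_natCard g
  rw [hg, card_B] at h1
  exact h h1

/-- **The centralizer trick at 11.** -/
theorem kill_eleven {G : Type u} [Group G] [Finite G] {X : Type v} [Group X] {π : G →* X} {S : Subgroup X} {r : ℕ}
    (h : Red π S r) (e : X ≃* Spor.BabyMonster) {p : ℕ} (hp : p.Prime) (h5 : 5 ≠ p) (h11 : 11 ≠ p) (h23 : 23 ≠ p)
    (hno1 : ¬ HasOrd G (11 * (4 * p))) (hno2 : ¬ HasOrd G (11 * (5 * p))) : ¬ p ∣ Nat.card π.ker := by
  intro hpk
  obtain ⟨Y, _, _, τ, f, hm, hf⟩ := h.exists_mod hp hpk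
  obtain ⟨c, hc, hfix⟩ := frob_fix hm hp (by norm_num) h23 (frob_23.congr e.symm)
  have hc' : orderOf (e c) = 11 := by rw [MulEquiv.orderOf_eq, hc]
  let φ : ↥(centralizer ({e c} : Set Spor.BabyMonster)) →* ↥(centralizer ({c} : Set X)) :=
    (e.symm.toMonoidHom.comp (centralizer ({e c} : Set Spor.BabyMonster)).subtype).codRestrict _ (fun g => by
      have h1 := mem_centralizer_singleton_iff.1 g.2
      rw [mem_centralizer_singleton_iff]
      show e.symm g * c = c * e.symm g
      apply e.injective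
      rw [map_mul, map_mul, e.apply_symm_apply, h1])
  have hF : HasFrob ↥(centralizer ({c} : Set X)) 5 4 := by
    refine (frob_cent hc').of_injective φ ?_
    intro a b hab
    have h1 : e.symm (a : Spor.BabyMonster) = e.symm b := congrArg Subtype.val hab
    exact Subtype.ext (e.symm.injective h1)
  rcases hm.centC hp prime11 h11 hc hfix (by norm_num) h5 (by norm_num) (by norm_num) hF with h1 | h1
  · exact hno1 (h1.of_surjective f hf)
  · exact hno2 (h1.of_surjective f hf)

/-- a prime `r` does not divide the index of the socle, if `q * r` is not an element order, and the order of a Sylow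
`q`-subgroup of `S` is not `1` modulo `r` -/
theorem not_dvd_index' {G : Type u} [Group G] [Finite G] {X : Type v} [Group X] {π : G →* X} {S : Subgroup X} {s : ℕ}
    (h : Red π S s) {r : ℕ} (hr : r.Prime) {q k : ℕ} (hq : q.Prime) (hqs : q ≠ r) (hno : ¬ HasOrd G (r * q))
    (hk : q ^ k ∣ Nat.card S) (hk' : ¬ q ^ (k + 1) ∣ Nat.card S) (hne : q ^ k % r ≠ 1) : ¬ r ∣ S.index := by
  classical
  intro hsi
  have hfs : Fact r.Prime := ⟨hr⟩
  have hfq : Fact q.Prime := ⟨hq⟩
  have hfX : Finite X := Finite.of_surjective π h.surj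
  have hSn := h.normal
  obtain ⟨Q⟩ : Nonempty (Sylow q S) := inferInstance
  have hQc : Nat.card Q = q ^ k := by
    obtain ⟨m, hm⟩ := hk
    have hpos : 0 < Nat.card S := Nat.card_pos
    have hmq : ¬ q ∣ m := by
      rintro ⟨j, rfl⟩
      exact hk' ⟨j, by rw [hm, pow_succ]; ring⟩
    rw [Q.card_eq_multiplicity, hm, Nat.factorization_mul (pow_ne_zero _ hq.ne_zero) (by rintro rfl; simp at hm; omega),
      Nat.Prime.factorization_pow hq]
    simp [Nat.factorization_eq_zero_of_not_dvd hmq]
  set Q' : Subgroup X := (Q : Subgroup S).map S.subtype with hQ'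
  have hQ'c : Nat.card Q' = q ^ k := by
    rw [hQ', Subgroup.card_map_of_injective S.subtype_injective]
    exact hQc
  have hsup : normalizer (Q' : Set X) ⊔ S = ⊤ := Sylow.normalizer_sup_eq_top Q
  set N := normalizer (Q' : Set X) with hN
  have hsN : r ∣ Nat.card N := by
    have h2 : S.index = S.relIndex N := by
      rw [← Subgroup.relIndex_sup_right, hsup, Subgroup.relIndex_top_right]
    rw [h2] at hsi
    exact hsi.trans (Subgroup.relIndex_dvd_card S N)
  obtain ⟨x, hx⟩ := exists_prime_orderOf_dvd_card' (G := N) r hsN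
  -- the action of `x` on `Q'`
  let φ : zpowers x →* MulAut Q' := (normalizerMonoidHom Q').comp (zpowers x).subtype
  let : MulAction (zpowers x) Q' := MulAction.compHom Q' φ
  have hxp : IsPGroup r (zpowers x) := IsPGroup.of_card (n := 1) (by rw [Nat.card_zpowers, hx, pow_one])
  have h3 := hxp.card_modEq_card_fixedPoints Q'
  have h4 : Nat.card (MulAction.fixedPoints (zpowers x) Q') = 1 := by
    rw [Nat.card_eq_one_iff_unique]
    refine ⟨⟨?_⟩, ⟨⟨1, fun g => by
      show φ g 1 = 1
      exact map_one _⟩⟩⟩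
    have key : ∀ a : MulAction.fixedPoints (zpowers x) Q', (a : Q') = 1 := by
      rintro ⟨a, ha⟩
      by_contra ha1
      have h5 : ((x : N) : X) * a * ((x : N) : X)⁻¹ = a := by
        have := congrArg Subtype.val (ha ⟨x, mem_zpowers x⟩)
        exact this
      have h6 : Commute ((x : N) : X) (a : X) := mul_inv_eq_iff_eq_mul.1 h5
      have h7 : orderOf (x : X) = r := by rw [Subgroup.orderOf_coe, hx]
      have h8 : (a : X) ≠ 1 := fun h9 => ha1 (Subtype.ext h9)
      have hQp : IsPGroup q Q' := Q.2.map _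
      obtain ⟨j, hj⟩ := (IsPGroup.iff_orderOf.mp hQp) a
      rw [← Subgroup.orderOf_coe] at hj
      have hj0 : j ≠ 0 := by
        rintro rfl
        rw [pow_zero, orderOf_eq_one_iff] at hj
        exact h8 hj
      have h9 : HasOrd X (r * q ^ j) := hasOrd_mul h6 h7 hj
        (Nat.Coprime.pow_right _ ((Nat.coprime_primes hr hq).2 hqs.symm))
      have h10 : HasOrd X (r * q) := h9.of_dvd (Nat.mul_dvd_mul_left r (dvd_pow_self q hj0))
      exact hno (h.hasOrd h10)
    intro a b
    exact Subtype.ext ((key a).trans (key b).symm)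
  rw [h4, hQ'c] at h3
  apply hne
  have h5 : q ^ k % r = 1 % r := h3
  rwa [Nat.mod_eq_of_lt hr.one_lt] at h5

/-- the test (the kernel check of `lst_eq` is cut into small pieces) -/
def kcT (g : Grp) : Bool :=
  pre [2, 3, 5, 7, 11, 13, 17, 19, 23, 31, 47] [47] g && Cfsg.Agent.H559.PrimesLe.sm [2, 3, 5, 7, 11, 13, 17, 19, 23, 31, 47] (ordN g)

/-- the groups of Lie type in characteristic `p` that pass the test -/
def kcF (p : ℕ) : List Grp :=
  (((List.range 47).filter fun f => Nat.ble 1 f).flatMap fun f => Cfsg.Agent.H559.PrimesLe.candQ 47 p f).filter kcT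

theorem kcA : ((((List.range 29).filter fun n => Nat.ble 5 n).map Grp.alt).filter kcT) = ([] : List Grp) := by decide +kernel

theorem kcS : ((Cfsg.Agent.OrdDiv.spor.map (fun x => x.1)).filter kcT) = [.b] := by decide +kernel

theorem kcF_2 : kcF 2 = ([] : List Grp) := by decide +kernel

theorem kcF_3 : kcF 3 = ([] : List Grp) := by decide +kernel

theorem kcF_5 : kcF 5 = ([] : List Grp) := by decide +kernel

theorem kcF_7 : kcF 7 = ([] : List Grp) := by decide +kernel

theorem kcF_11 : kcF 11 = ([] : List Grp) := by decide +kernel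

theorem kcF_13 : kcF 13 = ([] : List Grp) := by decide +kernel

theorem kcF_17 : kcF 17 = ([] : List Grp) := by decide +kernel

theorem kcF_19 : kcF 19 = ([] : List Grp) := by decide +kernel

theorem kcF_23 : kcF 23 = ([] : List Grp) := by decide +kernel

theorem kcF_31 : kcF 31 = ([] : List Grp) := by decide +kernel

theorem kcF_47 : kcF 47 = [.psl 2 47, .psp 2 47, .psl 2 2209] := by decide +kernel

theorem kcL : ([2, 3, 5, 7, 11, 13, 17, 19, 23, 31, 47] : List ℕ).flatMap kcF = [.psl 2 47, .psp 2 47, .psl 2 2209] := by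
  simp only [List.flatMap_cons, List.flatMap_nil, kcF_2, kcF_3, kcF_5, kcF_7, kcF_11, kcF_13, kcF_17, kcF_19, kcF_23,
    kcF_31, kcF_47, List.nil_append, List.append_nil]

theorem lst_eq : lst [2, 3, 5, 7, 11, 13, 17, 19, 23, 31, 47] [47] 47 29 = [.b, .psl 2 47, .psp 2 47, .psl 2 2209] := by
  have h : lst [2, 3, 5, 7, 11, 13, 17, 19, 23, 31, 47] [47] 47 29 =
      (Cfsg.Agent.H559.PrimesLe.cand [2, 3, 5, 7, 11, 13, 17, 19, 23, 31, 47] 47 29).filter kcT := rfl
  rw [h, Cfsg.Agent.H559.PrimesLe.cand, List.filter_append, List.filter_append, kcA, kcS, List.filter_flatMap]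
  exact congrArg (fun l => [] ++ [Grp.b] ++ l) kcL

theorem primes_B {r : ℕ} (hr : r.Prime) (h : r ∣ NB) : r ∈ [2, 3, 5, 7, 11, 13, 17, 19, 23, 31, 47] := by
  rw [show NB = 2 ^ 41 * 3 ^ 13 * 5 ^ 6 * 7 ^ 2 * 11 * 13 * 17 * 19 * 23 * 31 * 47 by norm_num] at h
  simp only [hr.dvd_mul] at h
  have key : ∀ q k : ℕ, q.Prime → r ∣ q ^ k → r = q := fun q k hq h4 =>
    (Nat.prime_dvd_prime_iff_eq hr hq).1 (hr.dvd_of_dvd_pow h4)
  have key' : ∀ q : ℕ, q.Prime → r ∣ q → r = q := fun q hq h4 => (Nat.prime_dvd_prime_iff_eq hr hq).1 h4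
  rcases h with (((((((((h4 | h4) | h4) | h4) | h4) | h4) | h4) | h4) | h4) | h4) | h4
  · rw [key 2 41 (by norm_num) h4]; decide
  · rw [key 3 13 (by norm_num) h4]; decide
  · rw [key 5 6 (by norm_num) h4]; decide
  · rw [key 7 2 (by norm_num) h4]; decide
  · rw [key' 11 (by norm_num) h4]; decide
  · rw [key' 13 (by norm_num) h4]; decide
  · rw [key' 17 (by norm_num) h4]; decide
  · rw [key' 19 (by norm_num) h4]; decide
  · rw [key' 23 (by norm_num) h4]; decide
  · rw [key' 31 (by norm_num) h4]; decide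
  · rw [key' 47 (by norm_num) h4]; decide

/-- 31 is not adjacent to 2 -/
theorem no_62 : ¬ HasOrd Spor.BabyMonster (31 * 2) := by
  rintro ⟨g, hg⟩
  have hfin := finB
  obtain ⟨h1, h2⟩ := split (by norm_num) (by norm_num) hg
  exact Cfsg.Agent.H149.Sp.na_b_model_all (by norm_num) (by norm_num) (by norm_num) (by norm_num) _ _ h1 h2
    (((Commute.refl g).pow_left 2).pow_right 31).eq

/-- **The Baby Monster is recognizable by spectrum** -/
theorem rec_b (hN : NameHyp.{u}) {G : Type u} [Group G] [Finite G] {M : Type v} [Group M] [Finite M]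
    (hM : Spor.IsoB M) (h : Same G M) : Nonempty (G ≃* M) := by
  have hfB := finB
  obtain ⟨eM⟩ := hM
  have hc : Nat.card M = NB := (Nat.card_congr eM.toEquiv).trans card_B
  have noM : ∀ n, ¬ HasOrd Spor.BabyMonster n → ¬ HasOrd G n := fun n hn h1 => hn (((h n).1 h1).congr eM)
  have p47 : Nat.Prime 47 := by norm_num
  have p31 : Nat.Prime 31 := by norm_num
  have p23 : Nat.Prime 23 := by norm_num
  have sB : H537.Cop.SC 47 Spor.BabyMonster :=
    Cfsg.Agent.H291.SCBaby.sc (fun S _ _ _ => H889.RecKnown.known hN S)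
  have s47 : H537.Cop.SC 47 M := sB.congr eM
  have i47 := isolated_of_sc p47 s47
  have g47 : Good M 47 := by
    refine ⟨p47, by norm_num, by rw [hc]; norm_num, i47, 31, by decide, by norm_num, ?_, ?_⟩
    · exact (hasOrd_prime p31).2 (by rw [hc]; norm_num)
    · intro h1
      rw [mul_comm] at h1
      exact no_62 (h1.congr eM)
  have hns : ¬ Group.IsSolvable G := by
    refine not_solvable_of_same h prime11 p23 p47 (by norm_num) (by norm_num) (by norm_num) (by rw [hc]; norm_num)
      (by rw [hc]; norm_num) (by rw [hc]; norm_num)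
      (fun h1 => eleven_no (m := 23) (by norm_num) (by norm_num) (h1.congr eM)) ?_ ?_
    · rw [mul_comm]
      exact (isolated_iff.1 i47) 11 prime11 (by norm_num)
    · rw [mul_comm]
      exact (isolated_iff.1 i47) 23 p23 (by norm_num)
  have h2 : 2 ∣ Nat.card G := (dvd_of_same h Nat.prime_two).2 (by rw [hc]; norm_num)
  obtain ⟨X, _, _, π, S, hred⟩ := exists_red hns h2 (g47.of_same h)
  have r47 := hred 47 (g47.of_same h)
  have hps : ∀ r : ℕ, r.Prime → r ∣ Nat.card G → r ∈ [2, 3, 5, 7, 11, 13, 17, 19, 23, 31, 47] := fun r hr hd =>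
    primes_B hr (by rw [← hc]; exact (dvd_of_same h hr).1 hd)
  have k31 : ¬ 31 ∣ Nat.card π.ker := r47.kill_na p31 (by norm_num) (noM _ (by rw [mul_comm]; exact no_62))
  obtain ⟨g, hmem, hg⟩ := r47.exists_name hN (ps := [2, 3, 5, 7, 11, 13, 17, 19, 23, 31, 47]) (rs := [47]) (B := 47)
    (N := 29) (by norm_num) (by decide) (by norm_num) (by decide) hps (by
      intro r hr
      rw [List.mem_singleton] at hr
      rw [hr]
      exact r47.dvd)
  rw [lst_eq] at hmem
  have h31G : 31 ∣ Nat.card G := (dvd_of_same h p31).2 (by rw [hc]; norm_num)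
  have no3147 : ¬ HasOrd G (31 * 47) := by
    rw [mul_comm]
    exact (isolated_iff.1 r47.iso) 31 p31 (by norm_num)
  have key : ∀ k : ℕ, 47 ^ k ∣ ordN g → ¬ 47 ^ (k + 1) ∣ ordN g → 47 ^ k % 31 ≠ 1 → ¬ 31 ∣ ordN g → False := by
    intro k h3 h4 h5 h6
    rw [← hg.ord] at h3 h4 h6
    exact h6 (r47.dvd_simple p31 h31G k31 (not_dvd_index' r47 p31 p47 (by norm_num) no3147 h3 h4 h5))
  have hg0 : g = .b := by
    simp only [List.mem_cons, List.not_mem_nil, or_false] at hmem
    rcases hmem with rfl | rfl | rfl | rfl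
    · rfl
    · exact (key 1 (by decide +kernel) (by decide +kernel) (by decide +kernel) (by decide +kernel)).elim
    · exact (key 4 (by decide +kernel) (by decide +kernel) (by decide +kernel) (by decide +kernel)).elim
    · exact (key 2 (by decide +kernel) (by decide +kernel) (by decide +kernel) (by decide +kernel)).elim
  subst hg0
  have hSi : Spor.IsoB S := hg.real
  obtain ⟨eS⟩ := hSi
  have hfX : Finite X := Finite.of_surjective π r47.surj
  have hSn := r47.normal
  have hout : Nat.card (Cfsg.Out S) = 1 := by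
    rw [Cfsg.Agent.H548.Crit.card_out_congr eS]
    exact Cfsg.Agent.S2084.result
  have hidx : S.index = 1 := Nat.dvd_one.1 (hout ▸ index_dvd_out S r47.cent)
  rw [index_eq_one] at hidx
  have eX : X ≃* Spor.BabyMonster := ((topEquiv (G := X)).symm.trans (MulEquiv.subgroupCongr hidx.symm)).trans eS
  have f47 : HasFrob X 47 23 := (frob_of_sc (N := NB) card_B p47 (by norm_num) (by norm_num) sB (by norm_num)
    (by decide)).congr eX.symm
  have f23 : HasFrob X 23 11 := frob_23.congr eX.symm
  have no11 : ∀ m, 6 < m → ¬ 11 ∣ m → ¬ HasOrd G (11 * m) := fun m h3 h4 => noM _ (eleven_no h3 h4)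
  have e : S ≃* M := eS.trans eM.symm
  refine finish r47 (fun p hp hd => ?_) e (Or.inl ?_)
  · have h3 := hps p hp hd
    simp only [List.mem_cons, List.not_mem_nil, or_false] at h3
    rcases h3 with rfl | rfl | rfl | rfl | rfl | rfl | rfl | rfl | rfl | rfl | rfl
    · exact kill_eleven r47 eX (by norm_num) (by norm_num) (by norm_num) (by norm_num)
        (no11 8 (by norm_num) (by norm_num)) (no11 10 (by norm_num) (by norm_num))
    · exact kill_eleven r47 eX (by norm_num) (by norm_num) (by norm_num) (by norm_num)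
        (no11 12 (by norm_num) (by norm_num)) (no11 15 (by norm_num) (by norm_num))
    · exact r47.kill (by norm_num) p47 (by norm_num) f47 (noM _ no_115)
    · exact r47.kill (by norm_num) p23 (by norm_num) f23 (no11 7 (by norm_num) (by norm_num))
    · exact r47.kill (by norm_num) p23 (by norm_num) f23 (noM _ (no_sq (by norm_num)))
    · exact r47.kill (by norm_num) p23 (by norm_num) f23 (no11 13 (by norm_num) (by norm_num))
    · exact r47.kill (by norm_num) p23 (by norm_num) f23 (no11 17 (by norm_num) (by norm_num))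
    · exact r47.kill (by norm_num) p23 (by norm_num) f23 (no11 19 (by norm_num) (by norm_num))
    · exact r47.kill (by norm_num) p47 (by norm_num) f47 (noM _ (no_sq (by norm_num)))
    · exact k31
    · exact r47.not_dvd
  · rw [Cfsg.Agent.H548.Crit.card_out_congr eM]
    exact Cfsg.Agent.S2084.result

end Cfsg.Agent.H455.RecB
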