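import Cfsg.Agent.H455.OrbitLen
import Cfsg.Agent.SporRec.SuzPerm
import Cfsg.Agent.Fischer.Fi22Order
import Cfsg.Agent.TwoESix.FiInst
import Cfsg.Agent.HN.AutHS
import Cfsg.Agent.CpAutLy.Row

/-!
# Elements of large order in `Suz`, `Fi22`, `²E₆(2)`, `HS`, `McL` (helper455)
-/

set_option autoImplicit false

namespace Cfsg.Agent.H455.ElemS

open Cfsg Cfsg.Agent.H455.OrbitLen

universe u

section Suz

open Cfsg.Spor Cfsg.Agent.SporRec.SuzPerm

/-- the element `b c d f g` -/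
noncomputable def ws : Spor.Suz :=
  (([.b, .c, .d, .f, .g] : List Suz.Gen).map fun x => (PresentedGroup.of x : Spor.Suz)).prod

theorem suz_lt' [Finite Spor.Suz] : 20 < orderOf ws := by
  refine lt_orderOf φ ws (fun i : Fin 1782 => (i : ℕ)) (tr [.b, .c, .d, .f, .g]) ?_ ⟨0, by norm_num⟩ ?_
  · intro x
    rw [← prod_val]
    congr 1
  · decide +kernel

theorem suz_lt {X : Type u} [Group X] [Finite X] (h : Spor.IsoSuz X) : ∃ x : X, 20 < orderOf x := by
  obtain ⟨e⟩ := h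
  have : Finite Spor.Suz := Finite.of_equiv X e.toEquiv
  refine ⟨e.symm ws, ?_⟩
  rw [MulEquiv.orderOf_eq]
  exact suz_lt'

end Suz

section Fi

open Cfsg.Spor Cfsg.Spor.Fi22 Cfsg.Agent.Lib.PermNet Cfsg.Agent.Lib.PermNetOrbit
open Cfsg.Agent.Fischer.Fi22PtsRep

theorem fi_lt' [Finite Spor.Fi22] : 24 < orderOf (wd [.a, .b, .c, .d, .f, .g, .i]) :=
  lt_orderOf φ (wd [.a, .b, .c, .d, .f, .g, .i]) (fun i : ℕ => i)
    (ptWord (nw [.a, .b, .c, .d, .f, .g, .i])) (fun x => φ_wd_apply _ x) 80 (by decide +kernel)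

theorem fi_lt {X : Type u} [Group X] [Finite X] (h : Spor.IsoFi22 X) : ∃ x : X, 24 < orderOf x := by
  obtain ⟨e⟩ := h
  have : Finite Spor.Fi22 := Finite.of_equiv X e.toEquiv
  refine ⟨e.symm (wd [.a, .b, .c, .d, .f, .g, .i]), ?_⟩
  rw [MulEquiv.orderOf_eq]
  exact fi_lt'

theorem te_lt {X : Type u} [Group X] [Finite X] {K : Type*} [Field K] [Fintype K] (hK : Fintype.card K = 4)
    (e : X ≃* ↥(Lie.twistedE6 K 2)) : ∃ x : X, 24 < orderOf x := by
  obtain ⟨t, r, f, -, -, -, ht1, -, hf⟩ := Cfsg.Agent.TwoESix.FiInst.exists_fiHom K hK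
  have hs := Cfsg.Agent.Fischer.Fi22Order.isSimple
  have hfin : Finite Spor.Fi22 := Cfsg.Agent.Fischer.Fi22Order.upper.1
  have hker : f.ker = ⊥ := by
    rcases hs.eq_bot_or_eq_top_of_normal f.ker inferInstance with h | h
    · exact h
    · exfalso
      apply ht1 (Cfsg.Agent.TwoESix.FiInst.nd .a)
      rw [← hf, ← MonoidHom.mem_ker, h]
      exact Subgroup.mem_top _
  have hinj : Function.Injective f := (MonoidHom.ker_eq_bot_iff f).1 hker
  refine ⟨e.symm (f (wd [.a, .b, .c, .d, .f, .g, .i])), ?_⟩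
  rw [MulEquiv.orderOf_eq, orderOf_injective f hinj]
  exact fi_lt'

end Fi

section HS

open Cfsg.Agent.HN.HS100 Cfsg.Agent.SporadicA.PermTab

theorem hs_lt {X : Type u} [Group X] [Finite X] (h : Spor.IsoHS X) : ∃ x : X, 18 < orderOf x := by
  obtain ⟨e⟩ := h
  obtain ⟨⟨e'⟩, -⟩ := Cfsg.Agent.HN.AutHS.nonempty_Q
  obtain ⟨x, hx, hx'⟩ := inX
  obtain ⟨y, hy, hy'⟩ := inY
  obtain ⟨w, hw, hw'⟩ := inW
  let g : Q := ⟨x * y * y * w * y, Q.mul_mem (Q.mul_mem (Q.mul_mem (Q.mul_mem hx hy) hy) hw) hy⟩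
  refine ⟨e.symm (e' g), ?_⟩
  rw [MulEquiv.orderOf_eq, MulEquiv.orderOf_eq]
  refine lt_orderOf Q.subtype g (fun i : Fin 100 => (i : ℕ))
    (fun i => lk tX (lk tY (lk tY (lk tW (lk tY i))))) ?_ (0 : Fin 100) ?_
  · intro i
    change (((x * y * y * w * y) i : Fin 100) : ℕ) = _
    rw [Equiv.Perm.mul_apply, Equiv.Perm.mul_apply, Equiv.Perm.mul_apply, Equiv.Perm.mul_apply, hx', hy', hy', hw',
      hy']
  · decide +kernel

end HS

section McL

theorem mcl_thirty {X : Type u} [Group X] (h : Spor.IsoMcL X) : ∃ x : X, orderOf x = 30 := by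
  obtain ⟨z, u, f, hz, hu, hf, hzu, hzf, huf, -⟩ := Cfsg.Agent.CpAutLy.McLElt.exists_data h
  refine ⟨z * u * f, ?_⟩
  have h1 : orderOf (z * u) = 6 := by
    rw [(show Commute z u from hzu).orderOf_mul_eq_mul_orderOf_of_coprime (by rw [hz, hu]; norm_num), hz, hu]
  have h2 : Commute (z * u) f := Commute.mul_left hzf huf
  rw [h2.orderOf_mul_eq_mul_orderOf_of_coprime (by rw [h1, hf]; norm_num), h1, hf]

end McL

end Cfsg.Agent.H455.ElemS
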