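import Mathlib
import Cfsg.Agent.S0065

/-!
# The action of `G ⧸ K` on the central elements of order `s` of a nilpotent normal subgroup `K`

* `exists_act`: `K ⊴ G` nilpotent, `s ∣ |K|` prime: a nontrivial finite abelian group `V` of exponent `s` and
  `φ : G ⧸ K →* MulAut V` such that an element `x` of order `m` prime to `s` with a nontrivial fixed point yields an
  element of order `m * s` of `G`.
-/

set_option autoImplicit false

namespace Cfsg.Agent.H455.CentAct

open Subgroup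

universe u

variable {G : Type u} [Group G]

/-- the elements of order dividing `s` of `Z(K)` -/
def Vs (K : Subgroup G) (s : ℕ) : Subgroup G where
  carrier := {g | g ∈ K ∧ (∀ k ∈ K, k * g = g * k) ∧ g ^ s = 1}
  one_mem' := ⟨K.one_mem, fun k _ => by rw [mul_one, one_mul], one_pow s⟩
  mul_mem' := by
    rintro a b ⟨ha, hac, has⟩ ⟨hb, hbc, hbs⟩
    refine ⟨K.mul_mem ha hb, fun k hk => ?_, ?_⟩
    · rw [← mul_assoc, hac k hk, mul_assoc, hbc k hk, mul_assoc]
    · have h : Commute a b := hbc a ha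
      rw [h.mul_pow, has, hbs, one_mul]
  inv_mem' := by
    rintro a ⟨ha, hac, has⟩
    refine ⟨K.inv_mem ha, fun k hk => ?_, ?_⟩
    · have h : Commute k a := hac k hk
      exact h.inv_right
    · rw [inv_pow, has, inv_one]

theorem mem_Vs {K : Subgroup G} {s : ℕ} {g : G} :
    g ∈ Vs K s ↔ g ∈ K ∧ (∀ k ∈ K, k * g = g * k) ∧ g ^ s = 1 := Iff.rfl

instance normal_Vs (K : Subgroup G) [K.Normal] (s : ℕ) : (Vs K s).Normal := by
  refine ⟨fun a ha g => ?_⟩
  obtain ⟨ha, hac, has⟩ := ha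
  refine ⟨‹K.Normal›.conj_mem a ha g, fun k hk => ?_, ?_⟩
  · have h1 : g⁻¹ * k * g ∈ K := by
      have := ‹K.Normal›.conj_mem k hk g⁻¹
      rwa [inv_inv] at this
    have h2 := hac _ h1
    calc k * (g * a * g⁻¹) = g * ((g⁻¹ * k * g) * a) * g⁻¹ := by group
      _ = g * (a * (g⁻¹ * k * g)) * g⁻¹ := by rw [h2]
      _ = _ := by group
  · rw [conj_pow, has, mul_one, mul_inv_cancel]

theorem comm_Vs (K : Subgroup G) (s : ℕ) (a b : Vs K s) : a * b = b * a := by
  apply Subtype.ext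
  exact b.2.2.1 a a.2.1

/-- the action -/
noncomputable def act (K : Subgroup G) [K.Normal] (s : ℕ) : G ⧸ K →* MulAut (Vs K s) :=
  QuotientGroup.lift K (MulAut.conjNormal (H := Vs K s)) (by
    intro k hk
    rw [MonoidHom.mem_ker]
    apply MulEquiv.ext
    intro x
    apply Subtype.ext
    rw [MulAut.conjNormal_apply, MulAut.one_apply, x.2.2.1 k hk, mul_inv_cancel_right])

theorem act_mk (K : Subgroup G) [K.Normal] (s : ℕ) (g : G) (v : Vs K s) :
    ((act K s (g : G ⧸ K) v : Vs K s) : G) = g * v * g⁻¹ := by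
  change ((MulAut.conjNormal g v : Vs K s) : G) = _
  rw [MulAut.conjNormal_apply]

theorem exists_orderOf [Finite G] (K : Subgroup G) [K.Normal] {s : ℕ} (hs : s.Prime) (x : G ⧸ K)
    (hx : (orderOf x).Coprime s) {v : Vs K s} (hv : v ≠ 1) (h : act K s x v = v) :
    ∃ g : G, orderOf g = orderOf x * s := by
  obtain ⟨g, rfl⟩ := QuotientGroup.mk_surjective x
  have h1 := congrArg Subtype.val h
  rw [act_mk, mul_inv_eq_iff_eq_mul] at h1
  have hd : orderOf (g : G ⧸ K) ∣ orderOf g := orderOf_map_dvd (QuotientGroup.mk' K) g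
  obtain ⟨c, hc⟩ := hd
  have hc0 : c ≠ 0 := by
    rintro rfl
    have := orderOf_pos g
    omega
  have h2 : orderOf (g ^ c) = orderOf (g : G ⧸ K) := by
    rw [orderOf_pow_of_dvd hc0 ⟨orderOf (g : G ⧸ K), by rw [hc, mul_comm]⟩, hc]
    exact Nat.mul_div_cancel _ (Nat.pos_of_ne_zero hc0)
  have h3 : orderOf (v : G) = s := by
    have := Fact.mk hs
    exact orderOf_eq_prime v.2.2.2 (fun h => hv (Subtype.ext h))
  refine ⟨g ^ c * v, ?_⟩
  have h4 : Commute g (v : G) := h1
  rw [(h4.pow_left c).orderOf_mul_eq_mul_orderOf_of_coprime (by rw [h2, h3]; exact hx), h2, h3]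

theorem Vs_ne_bot [Finite G] (K : Subgroup G) (hK : Group.IsNilpotent K) {s : ℕ} (hs : s.Prime)
    (hd : s ∣ Nat.card K) : ∃ v : Vs K s, v ≠ 1 := by
  have hf : Fact s.Prime := ⟨hs⟩
  obtain ⟨P⟩ : Nonempty (Sylow s K) := inferInstance
  have hPn : (P : Subgroup K).Normal := by
    have := (Group.isNilpotent_of_finite_tfae (G := K)).out 0 3
    exact this.1 hK s hf P
  have hP1 : (P : Subgroup K) ≠ ⊥ := by
    intro h
    have h1 := P.card_eq_multiplicity
    rw [h, Subgroup.card_bot] at h1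
    have h2 : (Nat.card K).factorization s ≠ 0 := (hs.factorization_pos_of_dvd Nat.card_pos.ne' hd).ne'
    have h3 := one_lt_pow₀ hs.one_lt h2
    omega
  have h := Cfsg.Agent.S0065.result (P : Subgroup K) hP1
  have hpg : IsPGroup s ↥((P : Subgroup K) ⊓ Subgroup.center K) := P.isPGroup'.to_le inf_le_left
  have hdvd : s ∣ Nat.card ↥((P : Subgroup K) ⊓ Subgroup.center K) := by
    obtain ⟨n, hn⟩ := IsPGroup.iff_card.mp hpg
    rw [hn]
    apply dvd_pow_self
    rintro rfl
    rw [pow_zero, Subgroup.card_eq_one] at hn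
    exact h hn
  obtain ⟨z, hz⟩ := exists_prime_orderOf_dvd_card' (G := ↥((P : Subgroup K) ⊓ Subgroup.center K)) s hdvd
  have hzo : orderOf ((z : K) : G) = s := by rw [Subgroup.orderOf_coe, Subgroup.orderOf_coe, hz]
  refine ⟨⟨((z : K) : G), (z : K).2, fun k hk => ?_, ?_⟩, ?_⟩
  · exact congrArg Subtype.val (Subgroup.mem_center_iff.mp z.2.2 ⟨k, hk⟩)
  · exact orderOf_dvd_iff_pow_eq_one.1 hzo.dvd
  · intro h
    have h1 := congrArg Subtype.val h
    rw [Subgroup.coe_one, ← orderOf_eq_one_iff, hzo] at h1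
    exact hs.one_lt.ne' h1

/-- **The action.** -/
theorem exists_act [Finite G] (K : Subgroup G) [K.Normal] (hK : Group.IsNilpotent K) {s : ℕ} (hs : s.Prime)
    (hd : s ∣ Nat.card K) : ∃ (V : Type u) (_ : CommGroup V) (_ : Finite V) (φ : G ⧸ K →* MulAut V),
      (∃ v : V, v ≠ 1) ∧ (∀ v : V, v ^ s = 1) ∧ (∀ p : ℕ, p.Prime → p ≠ s → ¬ p ∣ Nat.card V) ∧
      ∀ m : ℕ, m.Coprime s → (∀ g : G, orderOf g ≠ m * s) →
        ∀ x : G ⧸ K, orderOf x = m → ∀ v : V, φ x v = v → v = 1 := by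
  refine ⟨Vs K s, { (inferInstance : Group (Vs K s)) with mul_comm := comm_Vs K s }, inferInstance, act K s,
    Vs_ne_bot K hK hs hd, fun v => Subtype.ext v.2.2.2, ?_, ?_⟩
  · intro p hp hps hpd
    have : Fact p.Prime := ⟨hp⟩
    obtain ⟨v, hv⟩ := exists_prime_orderOf_dvd_card' (G := Vs K s) p hpd
    have h1 : v ^ s = 1 := Subtype.ext v.2.2.2
    have h2 := orderOf_dvd_of_pow_eq_one h1
    rw [hv] at h2
    exact hps ((Nat.prime_dvd_prime_iff_eq hp hs).mp h2)
  · intro m hm hG x hx v hv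
    by_contra hv1
    obtain ⟨g, hg⟩ := exists_orderOf K hs x (by rw [hx]; exact hm) hv1 hv
    rw [hx] at hg
    exact hG g hg

end Cfsg.Agent.H455.CentAct
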