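import Cfsg.Agent.H455.Smooth

/-!
# Simple groups `S` with `π(S) ⊆ [1, n]` and all primes of `(n/2, n]` dividing `|S|`, `9 ≤ n ≤ 46` (helper455)
-/

set_option autoImplicit false

namespace Cfsg.Agent.H455.Final

open Cfsg Cfsg.Agent.OrdDiv Cfsg.Agent.H436 Cfsg.Agent.H455.Smooth

/-- the exceptions of the parameters -/
def okb : Grp → Bool
  | .alt _ => false
  | .psl n q => !(Nat.beq n 2 && Nat.blt q 4)
  | .psp m q => !(Nat.beq m 2 && Nat.blt q 3)
  | .psu n q => !(Nat.beq n 3 && Nat.beq q 2)
  | .oodd _ q => Nat.beq (q % 2) 1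
  | .g2 q => Nat.ble 3 q
  | _ => true

theorem okb_of_cond {g : Grp} (hg : Cond g) (h : ∀ n, g ≠ .alt n) : okb g = true := by
  cases g with
  | alt n => exact absurd rfl (h n)
  | psl n q =>
    simp only [okb, Bool.not_eq_true', Bool.and_eq_false_iff]
    by_cases h2 : n = 2
    · right
      have := hg.2.1 h2
      rw [← Bool.not_eq_true, Nat.blt_eq]
      omega
    · left
      rw [← Bool.not_eq_true, Nat.beq_eq]
      exact h2
  | psp n q =>
    simp only [okb, Bool.not_eq_true', Bool.and_eq_false_iff]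
    by_cases h2 : n = 2
    · right
      have := hg.2.1 h2
      rw [← Bool.not_eq_true, Nat.blt_eq]
      omega
    · left
      rw [← Bool.not_eq_true, Nat.beq_eq]
      exact h2
  | psu n q =>
    simp only [okb, Bool.not_eq_true', Bool.and_eq_false_iff]
    by_cases h2 : n = 3
    · right
      rw [← Bool.not_eq_true, Nat.beq_eq]
      intro h3
      exact hg.2.1 ⟨h2, h3⟩
    · left
      rw [← Bool.not_eq_true, Nat.beq_eq]
      exact h2
  | oodd n q =>
    simp only [okb, Nat.beq_eq]
    exact Nat.odd_iff.1 hg.2.1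
  | g2 q =>
    simp only [okb, Nat.ble_eq]
    exact hg.1
  | _ => rfl

/-- `π(o) ⊆ [1, n]` and all primes of `(n/2, n]` divide `o` -/
def tst (n o : ℕ) : Bool :=
  primes43.all fun p => if Nat.beq (o % p) 0 then Nat.ble p n else !(Nat.blt n (2 * p) && Nat.ble p n)

/-- the groups surviving for some `n ≥ 9` -/
def names : List (ℕ × Grp) :=
  [(9, .psl 4 2), (9, .psp 3 2), (9, .oplus 4 2), (9, .psl 3 4), (9, .psu 4 3), (9, .psu 3 5), (9, .psp 2 7),
   (9, .psl 2 49), (9, .j2),
   (10, .psl 3 2), (10, .psl 2 7), (10, .psl 2 8), (10, .psu 3 3),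
   (10, .psl 4 2), (10, .psp 3 2), (10, .oplus 4 2), (10, .psl 3 4), (10, .psu 4 3), (10, .psu 3 5), (10, .psp 2 7),
   (10, .psl 2 49), (10, .j2),
   (11, .psu 6 2), (11, .m22), (11, .mcl), (11, .hs), (12, .psu 6 2), (12, .m22), (12, .mcl), (12, .hs),
   (13, .psl 6 3), (13, .suz), (13, .fi22),
   (14, .psl 5 3), (14, .psl 6 3), (14, .suz), (14, .fi22), (15, .psl 5 3), (15, .psl 6 3), (15, .suz), (15, .fi22),
   (16, .psl 5 3), (16, .psl 6 3), (16, .suz), (16, .fi22), (19, .te6 2), (20, .te6 2), (21, .te6 2), (22, .te6 2)]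

def chk : Bool :=
  box.all fun g => !(okb g) || !(sm (ordN g)) ||
    (List.range 38).all fun k => !(tst (k + 9) (ordN g)) || decide ((k + 9, g) ∈ names)

set_option maxRecDepth 20000 in
theorem chk_true : chk = true := by decide +kernel

/-- **The surviving groups.** -/
theorem named_final {g : Grp} {c n : ℕ} (hn : 9 ≤ n) (hn' : n ≤ 46) (hg : Cond g) (he : den g * c = num g)
    (ho : c = ordN g) (hc : c ≠ 0) (h1 : ∀ p : ℕ, p.Prime → p ∣ c → p ≤ n)
    (h2 : ∀ p : ℕ, p.Prime → n < 2 * p → p ≤ n → p ∣ c) :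
    (∃ m, g = .alt m ∧ 5 ≤ m ∧ m ≤ 46) ∨ (n, g) ∈ names := by
  have hsm : Sm c := fun p hp hpc => by
    have h3 := h1 p hp hpc
    by_contra hlt
    push Not at hlt
    have h4 : p ≤ 46 := h3.trans hn'
    interval_cases p <;> revert hp <;> norm_num
  by_cases halt : ∃ m, g = .alt m
  · obtain ⟨m, rfl⟩ := halt
    have := alt_box he hsm
    exact Or.inl ⟨m, rfl, hg, by omega⟩
  · right
    have hb := named_mem hg he hsm
    have hok : okb g = true := okb_of_cond hg (fun m hm => halt ⟨m, hm⟩)
    have h3 := List.all_eq_true.1 chk_true g hb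
    rw [hok, ← ho, hsm.test hc] at h3
    simp only [Bool.not_true, Bool.false_or] at h3
    have h4 := List.all_eq_true.1 h3 (n - 9) (List.mem_range.2 (by omega))
    rw [Nat.sub_add_cancel hn] at h4
    have h5 : tst n c = true := by
      rw [tst, List.all_eq_true]
      intro p hp
      have hpp : p.Prime := by
        simp only [primes43, List.mem_cons, List.not_mem_nil, or_false] at hp
        rcases hp with rfl | rfl | rfl | rfl | rfl | rfl | rfl | rfl | rfl | rfl | rfl | rfl | rfl | rfl <;> norm_num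
      split
      next h6 =>
        rw [Nat.beq_eq] at h6
        rw [Nat.ble_eq]
        exact h1 p hpp (Nat.dvd_of_mod_eq_zero h6)
      next h6 =>
        rw [Nat.beq_eq] at h6
        rw [Bool.not_eq_true', Bool.and_eq_false_iff]
        by_contra h7
        push Not at h7
        rw [Bool.ne_false_iff, Bool.ne_false_iff, Nat.blt_eq, Nat.ble_eq] at h7
        exact h6 (Nat.mod_eq_zero_of_dvd (h2 p hpp h7.1 h7.2))
    rw [h5] at h4
    simpa only [Bool.not_true, Bool.false_or, decide_eq_true_eq] using h4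

end Cfsg.Agent.H455.Final
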