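import Cfsg.Agent.S2468
import Cfsg.Agent.S2469
import Cfsg.Agent.S2470
import Cfsg.Agent.S2475
import Cfsg.Agent.H374.SpFour
import Cfsg.Agent.H377.ToOmega
import Cfsg.Agent.H367.SpecU33
import Cfsg.Agent.H379.J2Spec
import Cfsg.Agent.H455.ElemU
import Cfsg.Agent.H455.ElemS
import Cfsg.Agent.H455.Final

/-!
# Elements of large order in some small simple groups (helper455)
-/

set_option autoImplicit false

namespace Cfsg.Agent.H455.ElemC

open Cfsg Cfsg.Agent.OrdDiv Cfsg.Agent.H436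

universe u

theorem charP_of_card {F : Type*} [Field F] [Fintype F] {p k : ℕ} (hp : p.Prime) (h : Fintype.card F = p ^ k) :
    CharP F p := by
  have h0 : ((p : ℕ) : F) = 0 := by
    have := FiniteField.cast_card_eq_zero F
    rw [h, Nat.cast_pow] at this
    rcases Nat.eq_zero_or_pos k with rfl | hk
    · simp at this
    · exact (pow_eq_zero_iff (by omega)).1 this
  have h1 : ringChar F ∣ p := (ringChar.spec F p).1 h0
  rcases (Nat.dvd_prime hp).1 h1 with h2 | h2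
  · exact absurd h2 CharP.ringChar_ne_one
  · exact h2 ▸ ringChar.charP F

theorem ord23 : 2 = orderOf ((2 : ℕ) : ZMod 3) := (orderOf_eq_prime (by decide) (by decide)).symm
theorem ord25 : 4 = orderOf ((2 : ℕ) : ZMod 5) := by
  have : Fact (Nat.Prime 2) := ⟨Nat.prime_two⟩
  exact (orderOf_eq_prime_pow (p := 2) (n := 1) (by decide) (by decide)).symm
theorem ord313 : 3 = orderOf ((3 : ℕ) : ZMod 13) := by
  have : Fact (Nat.Prime 3) := ⟨Nat.prime_three⟩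
  exact (orderOf_eq_prime (by decide) (by decide)).symm

variable {X : Type u} [Group X]

theorem card_trans {Y : Type*} [Group Y] (e : X ≃* Y) {g : Grp} (h : Nat.card X = ordN g) : Nat.card Y = ordN g := by
  rw [← h]
  exact (Nat.card_congr e.toEquiv).symm

theorem psl42 (h : IsNamed (.psl 4 2) X) : ∃ x : X, orderOf x = 15 := by
  obtain ⟨F, _, _, hF, ⟨e⟩⟩ := h.real
  have hc := card_trans e h.ord
  have : Fact (Nat.Prime 2) := ⟨Nat.prime_two⟩
  have : CharP F 2 := charP_of_card (k := 1) Nat.prime_two (by rw [hF]; norm_num)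
  have hk : 2 = orderOf ((Fintype.card F : ℕ) : ZMod 3) := by rw [hF]; exact ord23
  have hl : 4 = orderOf ((Fintype.card F : ℕ) : ZMod 5) := by rw [hF]; exact ord25
  have h1 := S2468.result (F := F) 2 4 (by norm_num) (by norm_num) 3 5 (by norm_num) (by norm_num) (by norm_num)
    (by norm_num) (by norm_num) (by norm_num) (by norm_num) (by rw [hc]; decide +kernel) (by rw [hc]; decide +kernel)
    2 4 hk hl (by norm_num) (by norm_num)
  have h2 : 3 * 5 ∈ Set.range (orderOf : Matrix.ProjectiveSpecialLinearGroup (Fin 4) F → ℕ) := by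
    by_contra hcon
    have := (h1.1 hcon).2
    norm_num at this
  obtain ⟨x, hx⟩ := h2
  exact ⟨e.symm x, by rw [MulEquiv.orderOf_eq, hx]⟩

theorem psp32 (h : IsNamed (.psp 3 2) X) : ∃ x : X, orderOf x = 15 := by
  obtain ⟨F, _, _, hF, ⟨e⟩⟩ := h.real
  have hc := card_trans e h.ord
  have : Fact (Nat.Prime 2) := ⟨Nat.prime_two⟩
  have : CharP F 2 := charP_of_card (k := 1) Nat.prime_two (by rw [hF]; norm_num)
  have hk : 2 = orderOf ((Fintype.card F : ℕ) : ZMod 3) := by rw [hF]; exact ord23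
  have hl : 4 = orderOf ((Fintype.card F : ℕ) : ZMod 5) := by rw [hF]; exact ord25
  have h1 := S2469.result (F := F) 2 3 (by norm_num) (by norm_num) 3 5 (by norm_num) (by norm_num) (by norm_num)
    (by norm_num) (by norm_num) (by norm_num) (by norm_num) (by rw [hc]; decide +kernel) (by rw [hc]; decide +kernel)
    2 4 1 2 hk hl (Or.inr ⟨by decide, rfl⟩) (Or.inr ⟨by decide, rfl⟩) (by norm_num)
  have h2 : 3 * 5 ∈ Set.range (orderOf : Cfsg.PSp 3 F → ℕ) := by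
    by_contra hcon
    have := (h1.1 hcon).1
    norm_num at this
  obtain ⟨x, hx⟩ := h2
  exact ⟨e.symm x, by rw [MulEquiv.orderOf_eq, hx]⟩

theorem oplus42 (h : IsNamed (.oplus 4 2) X) : ∃ x : X, orderOf x = 15 := by
  obtain ⟨F, _, _, hF, ⟨e⟩⟩ := h.real
  have h1 : Cfsg.Agent.H377.Elt F 4 1 15 := Cfsg.Agent.H377.elt_tor_plus (by norm_num)
    (by rw [Nat.card_eq_fintype_card, hF]; norm_num)
  obtain ⟨x, hx⟩ := (Cfsg.Agent.H377.Elt.two (by norm_num) (by decide) h1).plus le_rfl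
  exact ⟨e.symm x, by rw [MulEquiv.orderOf_eq, hx]⟩

theorem psu43 (h : IsNamed (.psu 4 3) X) : ∃ x : X, orderOf x = 12 := by
  obtain ⟨F, _, _, hF, ⟨e⟩⟩ := h.real
  obtain ⟨x, hx⟩ := Cfsg.Agent.H455.ElemU.exists_twelve (F := F) (by rw [hF]; norm_num)
  exact ⟨e.symm x, by rw [MulEquiv.orderOf_eq, hx]⟩

theorem psu33 (h : IsNamed (.psu 3 3) X) : ∃ x : X, orderOf x = 12 := by
  obtain ⟨F, _, _, hF, ⟨e⟩⟩ := h.real
  have h1 : 12 ∈ Set.range (orderOf : Cfsg.PSU 3 F 3 → ℕ) := by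
    rw [Cfsg.Agent.H367.SpecU33.range_orderOf (by rw [hF]; norm_num)]
    simp
  obtain ⟨x, hx⟩ := h1
  exact ⟨e.symm x, by rw [MulEquiv.orderOf_eq, hx]⟩

theorem psp27 (h : IsNamed (.psp 2 7) X) : ∃ x : X, orderOf x = 42 := by
  obtain ⟨F, _, _, hF, ⟨e⟩⟩ := h.real
  have : Fact (Nat.Prime 7) := ⟨by norm_num⟩
  have : CharP F 7 := charP_of_card (k := 1) (by norm_num) (by rw [hF]; norm_num)
  have h1 := (Cfsg.Agent.H374.SpFour.exists_iff (F := F) (p := 7) (n := 1) one_ne_zero (by rw [hF]; norm_num)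
    (by norm_num) 42).2 (Or.inl (by norm_num))
  obtain ⟨x, hx⟩ := h1
  exact ⟨e.symm x, by rw [MulEquiv.orderOf_eq, hx]⟩

theorem psl249 (h : IsNamed (.psl 2 49) X) : ∃ x : X, orderOf x = 24 := by
  obtain ⟨F, _, _, hF, ⟨e⟩⟩ := h.real
  have : Fact (Nat.Prime 7) := ⟨by norm_num⟩
  have : CharP F 7 := charP_of_card (k := 2) (by norm_num) (by rw [hF]; norm_num)
  have h1 : 24 ∈ Set.range (orderOf : Matrix.ProjectiveSpecialLinearGroup (Fin 2) F → ℕ) := by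
    rw [S2475.result (F := F) 7 (by rw [hF]; norm_num), hF]
    exact Or.inr (Or.inl (by decide))
  obtain ⟨x, hx⟩ := h1
  exact ⟨e.symm x, by rw [MulEquiv.orderOf_eq, hx]⟩

theorem j2 (h : IsNamed .j2 X) : ∃ x : X, orderOf x = 15 := by
  obtain ⟨e⟩ : Spor.IsoJ2 X := h.real
  have h1 : 15 ∈ Set.range (orderOf : Cfsg.Spor.J2 → ℕ) := by
    rw [Cfsg.Agent.H379.J2Spec.range_J2]
    simp
  obtain ⟨x, hx⟩ := h1
  exact ⟨e.symm x, by rw [MulEquiv.orderOf_eq, hx]⟩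

theorem psu62 (h : IsNamed (.psu 6 2) X) : ∃ x : X, orderOf x = 15 := by
  obtain ⟨F, _, _, hF, ⟨e⟩⟩ := h.real
  obtain ⟨x, hx⟩ := Cfsg.Agent.H455.ElemU.exists_fifteen (F := F) (by rw [hF]; norm_num)
  exact ⟨e.symm x, by rw [MulEquiv.orderOf_eq, hx]⟩

theorem psl_three {n : ℕ} (hn : 5 ≤ n) (h : IsNamed (.psl n 3) X) (hd : 13 ∣ ordN (.psl n 3)) :
    ∃ x : X, orderOf x = 39 := by
  obtain ⟨F, _, _, hF, ⟨e⟩⟩ := h.real
  have hc := card_trans e h.ord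
  have : Fact (Nat.Prime 3) := ⟨Nat.prime_three⟩
  have : CharP F 3 := charP_of_card (k := 1) Nat.prime_three (by rw [hF]; norm_num)
  have hk : 3 = orderOf ((Fintype.card F : ℕ) : ZMod 13) := by rw [hF]; exact ord313
  have h1 := S2470.result (F := F) 3 n (by omega) (by omega) 13 (by norm_num) (by norm_num) (by norm_num)
    (by rw [hc]; exact hd) 3 hk
  have h2 : 13 * 3 ∈ Set.range (orderOf : Matrix.ProjectiveSpecialLinearGroup (Fin n) F → ℕ) := by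
    by_contra hcon
    rcases h1.1 hcon with h3 | h3
    · omega
    · omega
  obtain ⟨x, hx⟩ := h2
  exact ⟨e.symm x, by rw [MulEquiv.orderOf_eq, hx]⟩

/-- the groups to be treated by hand -/
def hard : List Grp := [.psl 3 4, .psu 3 5, .psl 3 2, .psl 2 7, .psl 2 8, .m22]

/-- **elements of order greater than `n`** -/
theorem big [Finite X] {n : ℕ} {g : Grp} (h : IsNamed g X) (hg : (n, g) ∈ Final.names) (hh : g ∉ hard) :
    ∃ x : X, n < orderOf x := by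
  have key : ∀ N, (∃ x : X, orderOf x = N) → n < N → ∃ x : X, n < orderOf x := by
    rintro N ⟨x, rfl⟩ hN
    exact ⟨x, hN⟩
  have key' : ∀ N, (∃ x : X, N < orderOf x) → n ≤ N → ∃ x : X, n < orderOf x := by
    rintro N ⟨x, hx⟩ hN
    exact ⟨x, by omega⟩
  simp only [Final.names, List.mem_cons, Prod.mk.injEq, List.not_mem_nil, or_false] at hg
  simp only [hard, List.mem_cons, List.not_mem_nil, or_false, not_or] at hh
  obtain ⟨h1, h2, h3, h4, h5, h6⟩ := hh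
  rcases hg with ⟨rfl, rfl⟩ | ⟨rfl, rfl⟩ | ⟨rfl, rfl⟩ | ⟨rfl, rfl⟩ | ⟨rfl, rfl⟩ | ⟨rfl, rfl⟩ | ⟨rfl, rfl⟩ | ⟨rfl, rfl⟩ |
    ⟨rfl, rfl⟩ | ⟨rfl, rfl⟩ | ⟨rfl, rfl⟩ | ⟨rfl, rfl⟩ | ⟨rfl, rfl⟩ | ⟨rfl, rfl⟩ | ⟨rfl, rfl⟩ | ⟨rfl, rfl⟩ | ⟨rfl, rfl⟩ |
    ⟨rfl, rfl⟩ | ⟨rfl, rfl⟩ | ⟨rfl, rfl⟩ | ⟨rfl, rfl⟩ | ⟨rfl, rfl⟩ | ⟨rfl, rfl⟩ | ⟨rfl, rfl⟩ | ⟨rfl, rfl⟩ | ⟨rfl, rfl⟩ |
    ⟨rfl, rfl⟩ | ⟨rfl, rfl⟩ | ⟨rfl, rfl⟩ | ⟨rfl, rfl⟩ | ⟨rfl, rfl⟩ | ⟨rfl, rfl⟩ | ⟨rfl, rfl⟩ | ⟨rfl, rfl⟩ | ⟨rfl, rfl⟩ |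
    ⟨rfl, rfl⟩ | ⟨rfl, rfl⟩ | ⟨rfl, rfl⟩ | ⟨rfl, rfl⟩ | ⟨rfl, rfl⟩ | ⟨rfl, rfl⟩ | ⟨rfl, rfl⟩ | ⟨rfl, rfl⟩ | ⟨rfl, rfl⟩ |
    ⟨rfl, rfl⟩ | ⟨rfl, rfl⟩ | ⟨rfl, rfl⟩ | ⟨rfl, rfl⟩ | ⟨rfl, rfl⟩
  all_goals first
    | exact absurd rfl h1
    | exact absurd rfl h2
    | exact absurd rfl h3
    | exact absurd rfl h4
    | exact absurd rfl h5
    | exact absurd rfl h6
    | exact key _ (psl42 h) (by norm_num)
    | exact key _ (psp32 h) (by norm_num)
    | exact key _ (oplus42 h) (by norm_num)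
    | exact key _ (psu43 h) (by norm_num)
    | exact key _ (psu33 h) (by norm_num)
    | exact key _ (psp27 h) (by norm_num)
    | exact key _ (psl249 h) (by norm_num)
    | exact key _ (j2 h) (by norm_num)
    | exact key _ (psu62 h) (by norm_num)
    | exact key _ (psl_three (n := 5) (by norm_num) h (by decide +kernel)) (by norm_num)
    | exact key _ (psl_three (n := 6) (by norm_num) h (by decide +kernel)) (by norm_num)
    | exact key _ (ElemS.mcl_thirty h.real) (by norm_num)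
    | exact key' _ (ElemS.hs_lt h.real) (by norm_num)
    | exact key' _ (ElemS.suz_lt h.real) (by norm_num)
    | exact key' _ (ElemS.fi_lt h.real) (by norm_num)
    | (obtain ⟨F, _, _, hF, ⟨e⟩⟩ := h.real
       exact key' _ (ElemS.te_lt (by rw [hF]; norm_num) e) (by norm_num))

end Cfsg.Agent.H455.ElemC
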