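import Mathlib
import Cfsg.Agent.H455.SylFrob
import Cfsg.Agent.H852.FrobFix
import Cfsg.Agent.Solvable.FixedPointFree

/-!
# Actions of the small simple groups on abelian groups with fixed-point-free elements

`Fpf φ m`: the elements of order `m` act fixed-point-freely.
-/

set_option autoImplicit false

namespace Cfsg.Agent.H455.HardAct

open Subgroup Cfsg.Agent.H455.Isolated

variable {M V : Type*} [Group M] [CommGroup V]

/-- the elements of order `m` act fixed-point-freely -/
def Fpf (φ : M →* MulAut V) (m : ℕ) : Prop := ∀ x : M, orderOf x = m → ∀ v : V, φ x v = v → v = 1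

theorem Fpf.comp {N : Type*} [Group N] {φ : M →* MulAut V} {m : ℕ} (h : Fpf φ m) (f : N →* M)
    (hf : Function.Injective f) : Fpf (φ.comp f) m := fun x hx v hv =>
  h (f x) (by rw [orderOf_injective f hf, hx]) v hv

theorem frob_case [Finite M] [Finite V] {r : ℕ} (h : Isolated M r) (hr : r.Prime) {a b q : ℕ}
    (hc : Nat.card M = r * b) (hb : b % r = a) (ha : 0 < a) (hq : q.Prime) (hqa : q ∣ a) (φ : M →* MulAut V)
    (h1 : Fpf φ r) (h2 : Fpf φ q) (hrV : ¬ r ∣ Nat.card V) (hV : ∃ v : V, v ≠ 1) : False := by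
  obtain ⟨y, f, k, hy, hf, hfy, hk⟩ := SylFrob.exists_frob h hr hc hb ha hq hqa
  obtain ⟨v, hv⟩ := hV
  exact hv (h1 y hy v (Cfsg.Agent.H852.FrobFix.frob_fix_cyclic φ hr y f (by rw [← hy, pow_orderOf_eq_one]) q
    hq.pos (by rw [← hf, pow_orderOf_eq_one]) k hfy hk hrV (h2 f hf) v))

/-- Noncyclic abelian subgroups of order `p²` -/
theorem sq_case [Finite M] [Finite V] {p : ℕ} (hp : p.Prime) (hd : p ^ 2 ∣ Nat.card M) (φ : M →* MulAut V)
    (h1 : Fpf φ p) (hn : ∀ x : M, orderOf x ≠ p ^ 2) (hV : ∃ v : V, v ≠ 1) : False := by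
  have : Fact p.Prime := ⟨hp⟩
  obtain ⟨A, hA⟩ := Sylow.exists_subgroup_card_pow_prime p hd
  have : Nontrivial V := by
    obtain ⟨v, hv⟩ := hV
    exact ⟨v, 1, hv⟩
  have hcomm := IsPGroup.isMulCommutative_of_card_eq_prime_sq (G := A) (p := p) (by rw [hA])
  have hexp : ∀ a : A, a ≠ 1 → orderOf a = p := by
    intro a ha
    have h2 : orderOf a ∣ p ^ 2 := by
      rw [← hA]
      exact orderOf_dvd_natCard a
    obtain ⟨k, hk, hk'⟩ := (Nat.dvd_prime_pow hp).1 h2
    interval_cases k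
    · exact absurd (orderOf_eq_one_iff.1 (by rw [hk', pow_zero])) ha
    · rw [hk', pow_one]
    · exfalso
      apply hn (a : M)
      rw [Subgroup.orderOf_coe, hk']
  have hcyc : IsCyclic A := Cfsg.Agent.Solvable.FixedPointFree.isCyclic_of_comm'
    (fun a b => hcomm.is_comm.comm a b) (φ.comp A.subtype) (by
      intro a ha v hv
      exact h1 (a : M) (by rw [Subgroup.orderOf_coe, hexp a ha]) v hv)
  obtain ⟨g, hg⟩ := IsCyclic.exists_generator (α := A)
  have h3 : orderOf g = Nat.card A := orderOf_eq_card_of_forall_mem_zpowers hg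
  apply hn (g : M)
  rw [Subgroup.orderOf_coe, h3, hA]

theorem injective_of_fpf [Finite M] [IsSimpleGroup M] {r : ℕ} (hr : r.Prime) (hd : r ∣ Nat.card M)
    (φ : M →* MulAut V) (h1 : Fpf φ r) (hV : ∃ v : V, v ≠ 1) : Function.Injective φ := by
  have : Fact r.Prime := ⟨hr⟩
  rw [← MonoidHom.ker_eq_bot_iff]
  rcases IsSimpleGroup.eq_bot_or_eq_top_of_normal φ.ker inferInstance with h | h
  · exact h
  · exfalso
    obtain ⟨y, hy⟩ := exists_prime_orderOf_dvd_card' (G := M) r hd
    obtain ⟨v, hv⟩ := hV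
    apply hv
    apply h1 y hy v
    have h2 : y ∈ φ.ker := by rw [h]; exact mem_top y
    rw [MonoidHom.mem_ker] at h2
    rw [h2, MulAut.one_apply]

/-- Quaternion subgroups -/
theorem quat_case [Finite M] [IsSimpleGroup M] (hM : ¬ IsMulCommutative M) {r : ℕ} (hr : r.Prime)
    (hd : r ∣ Nat.card M) (φ : M →* MulAut V) (h1 : Fpf φ r) (h4 : Fpf φ 4) (hV : ∃ v : V, v ≠ 1) {x y z : M}
    (hx : x ^ 2 = z) (hy : y ^ 2 = z) (hxy : (x * y) ^ 2 = z) (hz : z ^ 2 = 1) (hz1 : z ≠ 1) : False := by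
  have hinj := injective_of_fpf hr hd φ h1 hV
  have ho : ∀ t : M, t ^ 2 = z → orderOf t = 4 := by
    intro t ht
    have h2 : orderOf t = 2 ^ (1 + 1) := by
      apply orderOf_eq_prime_pow
      · rw [pow_one, ht]
        exact hz1
      · rw [show 2 ^ (1 + 1) = 2 * 2 by norm_num, pow_mul, ht, hz]
    rw [h2]
    norm_num
  -- elements with square `z` invert `C_V(z)`
  have h5 : ∀ t : M, t ^ 2 = z → ∀ v : V, φ z v = v → φ t v = v⁻¹ := by
    intro t ht v hv
    have h6 : φ t (v * φ t v) = v * φ t v := by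
      rw [map_mul, ← MulAut.mul_apply, ← map_mul, ← pow_two, ht, hv, mul_comm]
    exact eq_inv_of_mul_eq_one_right (h4 t (ho t ht) _ h6)
  have h6 : ∀ v : V, φ z v = v → v = 1 := by
    intro v hv
    apply h4 (x * y) (ho _ hxy)
    have h7 := h5 y hy v hv
    have h8 := h5 x hx v hv
    rw [map_mul, MulAut.mul_apply, h7, map_inv, h8, inv_inv]
  have h7 : ∀ v : V, φ z v = v⁻¹ := by
    intro v
    have h8 : φ z (v * φ z v) = v * φ z v := by
      rw [map_mul, ← MulAut.mul_apply, ← map_mul, ← pow_two, hz, map_one, MulAut.one_apply, mul_comm]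
    exact eq_inv_of_mul_eq_one_right (h6 _ h8)
  have h8 : z ∈ center M := by
    rw [mem_center_iff]
    intro g
    apply hinj
    apply MulEquiv.ext
    intro v
    rw [map_mul, map_mul, MulAut.mul_apply, MulAut.mul_apply, h7, h7, map_inv]
  rcases IsSimpleGroup.eq_bot_or_eq_top_of_normal (center M) inferInstance with h | h
  · rw [h, mem_bot] at h8
    exact hz1 h8
  · apply hM
    refine ⟨⟨fun a b => ?_⟩⟩
    have h9 : a ∈ center M := by rw [h]; exact mem_top a
    exact (mem_center_iff.1 h9 b).symm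

end Cfsg.Agent.H455.HardAct
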