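import Mathlib
import Cfsg.Agent.H455.HardAct

/-!
# The matrices and permutations for the hard cases
-/

set_option autoImplicit false

namespace Cfsg.Agent.H455.HardMat

open Subgroup Cfsg.Agent.H455.HardAct

variable {V : Type*} [CommGroup V]

/-! ### `A7` -/

section A7

def p5 : Equiv.Perm (Fin 7) := c[0, 1, 2, 3, 4]
def p4 : Equiv.Perm (Fin 7) := c[1, 2, 4, 3] * c[5, 6]

theorem alt_seven [Finite V] (φ : alternatingGroup (Fin 7) →* MulAut V) (h5 : Fpf φ 5) (h4 : Fpf φ 4)
    (hV : ∃ v : V, v ≠ 1) (h : ¬ 5 ∣ Nat.card V) : False := by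
  have : Fact (Nat.Prime 5) := ⟨by norm_num⟩
  have m5 : p5 ∈ alternatingGroup (Fin 7) := by
    rw [Equiv.Perm.mem_alternatingGroup]
    decide +kernel
  have m4 : p4 ∈ alternatingGroup (Fin 7) := by
    rw [Equiv.Perm.mem_alternatingGroup]
    decide +kernel
  have o5 : orderOf (⟨p5, m5⟩ : alternatingGroup (Fin 7)) = 5 := by
    apply orderOf_eq_prime
    · apply Subtype.ext
      change p5 ^ 5 = 1
      decide +kernel
    · intro h
      have h2 : p5 = 1 := congrArg Subtype.val h
      revert h2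
      decide +kernel
  have o4 : orderOf (⟨p4, m4⟩ : alternatingGroup (Fin 7)) = 4 := by
    have h2 : orderOf (⟨p4, m4⟩ : alternatingGroup (Fin 7)) = 2 ^ (1 + 1) := by
      apply orderOf_eq_prime_pow
      · intro h
        have h2 : p4 ^ 2 ^ 1 = 1 := congrArg Subtype.val h
        revert h2
        decide +kernel
      · apply Subtype.ext
        change p4 ^ 2 ^ (1 + 1) = 1
        decide +kernel
    rw [h2]
    norm_num
  have hc : (⟨p4, m4⟩ : alternatingGroup (Fin 7)) * ⟨p5, m5⟩ * (⟨p4, m4⟩ : alternatingGroup (Fin 7))⁻¹ =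
      ⟨p5, m5⟩ ^ 2 := by
    apply Subtype.ext
    change p4 * p5 * p4⁻¹ = p5 ^ 2
    decide +kernel
  obtain ⟨v, hv⟩ := hV
  apply hv
  apply h5 _ o5
  refine Cfsg.Agent.H852.FrobFix.frob_fix_cyclic φ (by norm_num : Nat.Prime 5) ⟨p5, m5⟩ ⟨p4, m4⟩
    (by rw [← o5, pow_orderOf_eq_one]) 4 (by norm_num) (by rw [← o4, pow_orderOf_eq_one]) 2 hc ?_ h (h4 _ o4) v
  intro i h0 hi
  interval_cases i <;> decide

end A7

/-! ### `L3(4)` -/

section L34

variable {F : Type*} [Field F] [Fintype F]

def U3 (a b c : F) : Matrix (Fin 3) (Fin 3) F := !![1, a, c; 0, 1, b; 0, 0, 1]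

omit [Fintype F] in
theorem U3_mul (a b c a' b' c' : F) : U3 a b c * U3 a' b' c' = U3 (a + a') (b + b') (c + a * b' + c') := by
  ext i j
  fin_cases i <;> fin_cases j <;> simp [U3, Matrix.mul_apply, Fin.sum_univ_three] <;> ring

omit [Fintype F] in
theorem U3_det (a b c : F) : (U3 a b c).det = 1 := by
  simp [U3, Matrix.det_fin_three]

/-- unitriangular elements -/
def S3 (a b c : F) : Matrix.SpecialLinearGroup (Fin 3) F := ⟨U3 a b c, U3_det a b c⟩

omit [Fintype F] in
theorem S3_mul (a b c a' b' c' : F) : S3 a b c * S3 a' b' c' = S3 (a + a') (b + b') (c + a * b' + c') :=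
  Subtype.ext (U3_mul a b c a' b' c')

omit [Fintype F] in
theorem S3_one : S3 (0 : F) 0 0 = 1 := by
  apply Subtype.ext
  change U3 0 0 0 = (1 : Matrix (Fin 3) (Fin 3) F)
  ext i j
  fin_cases i <;> fin_cases j <;> simp [U3]

omit [Fintype F] in
theorem S3_not_mem {a b c : F} (h : c ≠ 0) : S3 a b c ∉ center (Matrix.SpecialLinearGroup (Fin 3) F) := by
  intro hc
  rw [Matrix.SpecialLinearGroup.mem_center_iff] at hc
  obtain ⟨r, _, hr⟩ := hc
  have h1 := congrFun (congrFun hr 0) 2
  simp [S3, U3] at h1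
  exact h h1.symm

theorem exists_quat (hF : Fintype.card F = 4) :
    ∃ x y z : Matrix.ProjectiveSpecialLinearGroup (Fin 3) F, x ^ 2 = z ∧ y ^ 2 = z ∧ (x * y) ^ 2 = z ∧ z ^ 2 = 1 ∧
      z ≠ 1 := by
  obtain ⟨w, hw, hw0, hw1, h2⟩ : ∃ w : F, w ^ 2 = w + 1 ∧ w ≠ 0 ∧ w ≠ 1 ∧ (2 : F) = 0 := by
    classical
    have h2 : (2 : F) = 0 := by
      have h3 : ((Fintype.card F : ℕ) : F) = 0 := Nat.cast_card_eq_zero F
      rw [hF] at h3
      have h4 : (2 : F) * 2 = 0 := by
        push_cast at h3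
        linear_combination h3
      exact (mul_self_eq_zero.1 h4)
    obtain ⟨w, hw⟩ : ∃ w : F, w ∉ ({0, 1} : Finset F) := by
      by_contra hcon
      push Not at hcon
      have h3 : (Finset.univ : Finset F) ⊆ {0, 1} := fun x _ => hcon x
      have h4 := Finset.card_le_card h3
      have h5 := Finset.card_le_two (a := (0 : F)) (b := 1)
      rw [Finset.card_univ, hF] at h4
      omega
    simp only [Finset.mem_insert, Finset.mem_singleton, not_or] at hw
    refine ⟨w, ?_, hw.1, hw.2, h2⟩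
    have h3 : w ^ 4 = w := by
      rw [← hF]
      exact FiniteField.pow_card w
    have h4 : w * (w - 1) * (w ^ 2 + w + 1) = 0 := by linear_combination h3
    rcases mul_eq_zero.1 h4 with h5 | h5
    · rcases mul_eq_zero.1 h5 with h6 | h6
      · exact absurd h6 hw.1
      · exact absurd (sub_eq_zero.1 h6) hw.2
    · linear_combination h5 - (w + 1) * h2
  let π := QuotientGroup.mk' (center (Matrix.SpecialLinearGroup (Fin 3) F))
  have e : ∀ a b : F, S3 a b 0 ^ 2 = S3 0 0 (a * b) := by
    intro a b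
    rw [pow_two, S3_mul]
    congr 1
    · linear_combination a * h2
    · linear_combination b * h2
    · ring
  refine ⟨π (S3 1 1 0), π (S3 w (w ^ 2) 0), π (S3 0 0 1), ?_, ?_, ?_, ?_, ?_⟩
  · rw [← map_pow, e, mul_one]
  · rw [← map_pow, e]
    congr 2
    linear_combination w * hw + hw + w * h2
  · rw [← map_mul, ← map_pow, S3_mul, pow_two, S3_mul]
    congr 2
    · linear_combination (1 + w) * h2
    · linear_combination (1 + w ^ 2) * h2
    · linear_combination w * hw + 4 * hw + (3 * w + 2) * h2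
  · rw [← map_pow, pow_two, S3_mul]
    have h3 : S3 (0 + 0) (0 + 0) (1 + 0 * 0 + 1 : F) = 1 := by
      rw [← S3_one]
      congr 1
      · ring
      · ring
      · linear_combination h2
    rw [h3, map_one]
  · intro h
    rw [QuotientGroup.mk'_apply, QuotientGroup.eq_one_iff] at h
    exact S3_not_mem one_ne_zero h

end L34

/-! ### `L2(8)` -/

section L28

variable {F : Type*} [Field F]

/-- unitriangular elements -/
def S2 (a : F) : Matrix.SpecialLinearGroup (Fin 2) F := ⟨!![1, a; 0, 1], by simp [Matrix.det_fin_two]⟩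

/-- diagonal elements -/
def D2 (t : Fˣ) : Matrix.SpecialLinearGroup (Fin 2) F :=
  ⟨!![(t : F), 0; 0, ((t⁻¹ : Fˣ) : F)], by simp [Matrix.det_fin_two]⟩

theorem S2_mul (a b : F) : S2 a * S2 b = S2 (a + b) := by
  apply Subtype.ext
  change (S2 a).1 * (S2 b).1 = (S2 (a + b)).1
  ext i j
  fin_cases i <;> fin_cases j <;> simp [S2, Matrix.mul_apply, Fin.sum_univ_two]
  ring

theorem S2_zero : S2 (0 : F) = 1 := by
  apply Subtype.ext
  change (S2 (0 : F)).1 = (1 : Matrix (Fin 2) (Fin 2) F)
  ext i j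
  fin_cases i <;> fin_cases j <;> simp [S2]

theorem D2_mul (s t : Fˣ) : D2 s * D2 t = D2 (s * t) := by
  apply Subtype.ext
  change (D2 s).1 * (D2 t).1 = (D2 (s * t)).1
  ext i j
  fin_cases i <;> fin_cases j <;> simp [D2, Matrix.mul_apply, Fin.sum_univ_two]
  ring

theorem D2_one : D2 (1 : Fˣ) = 1 := by
  apply Subtype.ext
  change (D2 (1 : Fˣ)).1 = (1 : Matrix (Fin 2) (Fin 2) F)
  ext i j
  fin_cases i <;> fin_cases j <;> simp [D2]

theorem D2_pow (t : Fˣ) (n : ℕ) : D2 t ^ n = D2 (t ^ n) := by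
  induction n with
  | zero => rw [pow_zero, pow_zero, D2_one]
  | succ n ih => rw [pow_succ, ih, D2_mul, pow_succ]

theorem D2_conj (t : Fˣ) (a : F) : D2 t * S2 a = S2 ((t : F) ^ 2 * a) * D2 t := by
  apply Subtype.ext
  change (D2 t).1 * (S2 a).1 = (S2 ((t : F) ^ 2 * a)).1 * (D2 t).1
  ext i j
  fin_cases i <;> fin_cases j <;> simp [D2, S2, Matrix.mul_apply, Fin.sum_univ_two]
  have := t.ne_zero
  field_simp

theorem S2_not_mem {a : F} (h : a ≠ 0) : S2 a ∉ center (Matrix.SpecialLinearGroup (Fin 2) F) := by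
  intro hc
  rw [Matrix.SpecialLinearGroup.mem_center_iff] at hc
  obtain ⟨r, _, hr⟩ := hc
  have h1 := congrFun (congrFun hr 0) 1
  simp [S2] at h1
  exact h h1.symm

theorem D2_not_mem {t : Fˣ} (h : t ^ 2 ≠ 1) : D2 t ∉ center (Matrix.SpecialLinearGroup (Fin 2) F) := by
  intro hc
  rw [Matrix.SpecialLinearGroup.mem_center_iff] at hc
  obtain ⟨r, _, hr⟩ := hc
  have h1 := congrFun (congrFun hr 0) 0
  have h2 := congrFun (congrFun hr 1) 1
  simp [D2] at h1 h2
  have h3 : (t : F) = ((t⁻¹ : Fˣ) : F) := by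
    rw [← h1, h2, Units.val_inv_eq_inv_val]
  have h4 : t = t⁻¹ := Units.ext h3
  apply h
  rw [pow_two]
  nth_rewrite 2 [h4]
  rw [mul_inv_cancel]

theorem psl_two_eight [Fintype F] (hF : Fintype.card F = 8) [Finite V]
    [IsSimpleGroup (Matrix.ProjectiveSpecialLinearGroup (Fin 2) F)]
    (φ : Matrix.ProjectiveSpecialLinearGroup (Fin 2) F →* MulAut V) (h7 : Fpf φ 7)
    (hV : ∃ v : V, v ≠ 1) (h2 : ¬ 2 ∣ Nat.card V) : False := by
  classical
  have : Fact (Nat.Prime 7) := ⟨by norm_num⟩
  let π := QuotientGroup.mk' (center (Matrix.SpecialLinearGroup (Fin 2) F))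
  obtain ⟨t, ht⟩ : ∃ t : Fˣ, orderOf t = 7 := by
    apply exists_prime_orderOf_dvd_card
    rw [Fintype.card_units, hF]
  have hf7 : π (D2 t) ^ 7 = 1 := by
    rw [← map_pow, D2_pow, ← ht, pow_orderOf_eq_one, D2_one, map_one]
  have hf : orderOf (π (D2 t)) = 7 := by
    apply orderOf_eq_prime hf7
    intro h
    rw [QuotientGroup.mk'_apply, QuotientGroup.eq_one_iff] at h
    refine D2_not_mem ?_ h
    intro h3
    have h4 := orderOf_dvd_of_pow_eq_one h3
    rw [ht] at h4
    omega
  let u : Multiplicative F →* Matrix.ProjectiveSpecialLinearGroup (Fin 2) F :=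
    { toFun := fun k => π (S2 (Multiplicative.toAdd k))
      map_one' := by rw [toAdd_one, S2_zero, map_one]
      map_mul' := by
        intro a b
        rw [toAdd_mul, ← S2_mul, map_mul] }
  let α : Multiplicative F →* Multiplicative F := AddMonoidHom.toMultiplicative (AddMonoidHom.mulLeft ((t : F) ^ 2))
  have hα : ∀ k, Multiplicative.toAdd (α k) = (t : F) ^ 2 * Multiplicative.toAdd k := fun k => rfl
  have hit : ∀ (i : ℕ) (k : Multiplicative F),
      Multiplicative.toAdd ((⇑α)^[i] k) = (t : F) ^ (2 * i) * Multiplicative.toAdd k := by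
    intro i
    induction i with
    | zero => intro k; simp
    | succ i ih =>
      intro k
      rw [Function.iterate_succ_apply', hα, ih, ← mul_assoc, ← pow_add]
      congr 2
      ring
  have hcop : (Nat.card V).Coprime (Nat.card (Multiplicative F)) := by
    rw [Nat.card_congr (Multiplicative.toAdd : Multiplicative F ≃ F), Nat.card_eq_fintype_card (α := F), hF,
      show 8 = 2 ^ 3 by norm_num]
    exact Nat.Coprime.pow_right 3 ((Nat.prime_two.coprime_iff_not_dvd.2 h2).symm)
  have key := Cfsg.Agent.H852.FrobFix.frob_fix φ u (π (D2 t)) α (by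
    intro k
    change π (D2 t) * π (S2 (Multiplicative.toAdd k)) = π (S2 (Multiplicative.toAdd (α k))) * π (D2 t)
    rw [← map_mul, D2_conj, map_mul, hα]) 7 (by norm_num) hf7 (by
    intro i h0 hi a b hab
    have h3 : Multiplicative.toAdd a - (t : F) ^ (2 * i) * Multiplicative.toAdd a =
        Multiplicative.toAdd b - (t : F) ^ (2 * i) * Multiplicative.toAdd b := by
      have := congrArg Multiplicative.toAdd hab
      simpa [sub_eq_add_neg, hit] using this
    have h4 : (1 - (t : F) ^ (2 * i)) * (Multiplicative.toAdd a - Multiplicative.toAdd b) = 0 := by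
      linear_combination h3
    rcases mul_eq_zero.1 h4 with h5 | h5
    · exfalso
      have h6 : t ^ (2 * i) = 1 := by
        apply Units.ext
        rw [Units.val_pow_eq_pow_val, Units.val_one]
        exact (sub_eq_zero.1 h5).symm
      have h7 := orderOf_dvd_of_pow_eq_one h6
      rw [ht] at h7
      omega
    · exact Multiplicative.toAdd.injective (sub_eq_zero.1 h5)) hcop (h7 _ hf)
  have hinj := injective_of_fpf (r := 7) (by norm_num) (by rw [← hf]; exact orderOf_dvd_natCard _) φ h7 hV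
  have h8 : u (Multiplicative.ofAdd 1) = 1 := by
    apply hinj
    apply MulEquiv.ext
    intro v
    rw [key, map_one φ, MulAut.one_apply]
  have h9 : π (S2 1) = 1 := h8
  rw [QuotientGroup.mk'_apply, QuotientGroup.eq_one_iff] at h9
  exact S2_not_mem one_ne_zero h9

end L28

end Cfsg.Agent.H455.HardMat
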