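import Mathlib
import Cfsg.Agent.H455.Isolated
import Cfsg.Agent.H366.AlmostSimple
import Cfsg.Agent.S4002

/-!
# The reduction for groups with element orders `1, ..., n`
-/

set_option autoImplicit false

namespace Cfsg.Agent.H455.Red

open Subgroup Cfsg.Agent.H455.Isolated

universe u

theorem isolated_of {G : Type*} [Group G] {n : ℕ} (hω : ∀ g : G, orderOf g ≤ n) {r : ℕ} (hr : n < 2 * r) :
    Isolated G r := by
  intro s hs hsr g hg
  have h1 := hω g
  rw [hg] at h1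
  have h2 := hs.two_le
  nlinarith

/-- an odd number of `(n / 2, n]` prime to `r` -/
theorem exists_odd {n r : ℕ} (hn : 7 ≤ n) (hr : r.Prime) (hr1 : n < 2 * r) :
    ∃ m, Odd m ∧ m.Coprime r ∧ n < 2 * m ∧ m ≤ n := by
  have key : ∀ m, Odd m → n < 2 * m → m ≤ n → m ≠ r → ∃ m, Odd m ∧ m.Coprime r ∧ n < 2 * m ∧ m ≤ n := by
    intro m h1 h2 h3 h4
    refine ⟨m, h1, ?_, h2, h3⟩
    rw [Nat.coprime_comm, hr.coprime_iff_not_dvd]
    rintro ⟨c, hc⟩
    have hc2 : c < 2 := by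
      by_contra hcon
      push Not at hcon
      have := Nat.mul_le_mul_left r hcon
      omega
    interval_cases c <;> omega
  rcases Nat.even_or_odd n with he | ho
  · obtain ⟨k, hk⟩ := he
    by_cases h : n - 1 = r
    · exact key (n - 3) ⟨k - 2, by omega⟩ (by omega) (by omega) (by omega)
    · exact key (n - 1) ⟨k - 1, by omega⟩ (by omega) (by omega) h
  · obtain ⟨k, hk⟩ := ho
    by_cases h : n = r
    · exact key (n - 2) ⟨k - 1, by omega⟩ (by omega) (by omega) (by omega)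
    · exact key n ⟨k, hk⟩ (by omega) le_rfl h

/-- **The reduction.** -/
theorem reduce {G : Type u} [Group G] [Finite G] {n : ℕ} (hn : 7 ≤ n)
    (h : Set.range (orderOf : G → ℕ) = {k : ℕ | 1 ≤ k ∧ k ≤ n}) :
    ∃ (K : Subgroup G) (_ : K.Normal), Group.IsNilpotent K ∧
      ∃ M : Subgroup (G ⧸ K), M.Normal ∧ IsSimpleGroup M ∧ ¬ IsMulCommutative M ∧
        centralizer (M : Set (G ⧸ K)) = ⊥ ∧
        ∀ r : ℕ, r.Prime → n < 2 * r → r ≤ n → ¬ r ∣ Nat.card K ∧ r ∣ Nat.card M := by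
  have hω : ∀ g : G, orderOf g ≤ n := fun g => by
    have h1 : orderOf g ∈ {k : ℕ | 1 ≤ k ∧ k ≤ n} := by
      rw [← h]
      exact ⟨g, rfl⟩
    exact h1.2
  have hω' : ∀ k, 1 ≤ k → k ≤ n → ∃ g : G, orderOf g = k := fun k h1 h2 => by
    have h3 : k ∈ Set.range (orderOf : G → ℕ) := by
      rw [h]
      exact ⟨h1, h2⟩
    exact h3
  have hdvd : ∀ k, 1 ≤ k → k ≤ n → k ∣ Nat.card G := fun k h1 h2 => by
    obtain ⟨g, rfl⟩ := hω' k h1 h2
    exact orderOf_dvd_natCard g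
  have hns := Cfsg.Agent.S4002.result (G := G) n hn h
  obtain ⟨K, hKn, hKs, hKrad⟩ := Cfsg.Agent.H366.AlmostSimple.exists_radical G
  have hKmax : ∀ N : Subgroup G, N.Normal → Group.IsSolvable N → N ≤ K := by
    intro N hN hNs
    have h1 : (N.map (QuotientGroup.mk' K)).Normal := hN.map _ (QuotientGroup.mk'_surjective K)
    have h2 : Group.IsSolvable (N.map (QuotientGroup.mk' K)) :=
      Group.isSolvable_of_surjective (f := (QuotientGroup.mk' K).subgroupMap N)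
        ((QuotientGroup.mk' K).subgroupMap_surjective N)
    have h3 := hKrad _ h1 h2
    rwa [Subgroup.map_eq_bot_iff, QuotientGroup.ker_mk'] at h3
  have key : ∀ r : ℕ, r.Prime → n < 2 * r → r ≤ n → ¬ r ∣ Nat.card K ∧ Group.IsNilpotent K ∧
      ∃ M : Subgroup (G ⧸ K), M.Normal ∧ IsSimpleGroup M ∧ ¬ IsMulCommutative M ∧
        r ∣ Nat.card M ∧ centralizer (M : Set (G ⧸ K)) = ⊥ ∧
        ∀ N : Subgroup (G ⧸ K), N.Normal → N ≠ ⊥ → M ≤ N := by
    intro r hr hr1 hr2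
    obtain ⟨m, hm1, hm2, hm3, hm4⟩ := exists_odd hn hr hr1
    obtain ⟨y, hy⟩ := hω' m (by omega) hm4
    exact main hKs hKmax (isolated_of hω hr1) hr (by omega) (hdvd r hr.one_lt.le hr2)
      (hdvd 2 (by norm_num) (by omega)) hns y (by rw [hy]; exact hm1) (by rw [hy]; exact hm2) (by
        intro g hg
        have := hω g
        rw [hg, hy] at this
        omega)
  obtain ⟨r0, hr0, hr0a, hr0b⟩ := Nat.exists_prime_lt_and_le_two_mul (n / 2) (by omega)
  obtain ⟨_, hnil, M, hMn, hMs, hMna, _, hMc, hMmin⟩ := key r0 hr0 (by omega) (by omega)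
  refine ⟨K, hKn, hnil, M, hMn, hMs, hMna, hMc, fun r hr hr1 hr2 => ?_⟩
  obtain ⟨hrK, _, M', hM'n, hM's, _, hrM', _, hM'min⟩ := key r hr hr1 hr2
  refine ⟨hrK, ?_⟩
  have hne : ∀ L : Subgroup (G ⧸ K), IsSimpleGroup L → L ≠ ⊥ := by
    rintro L hL rfl
    obtain ⟨x, hx⟩ := exists_ne (1 : (⊥ : Subgroup (G ⧸ K)))
    exact hx (Subsingleton.elim _ _)
  have h1 : M = M' := le_antisymm (hMmin M' hM'n (hne M' hM's)) (hM'min M hMn (hne M hMs))
  rw [h1]
  exact hrM'

end Cfsg.Agent.H455.Red
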