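import Cfsg.Agent.H455.CentAct
import Cfsg.Agent.H455.HardMat
import Cfsg.Agent.H455.NoNine
import Cfsg.Agent.H455.Red
import Cfsg.Agent.S2466
import Cfsg.Agent.H455.Final

/-!
# The hard cases `A7`, `L3(4)`, `U3(5)`, `L2(7)`, `L2(8)`, `M22`
-/

set_option autoImplicit false

namespace Cfsg.Agent.H455.Hard

open Subgroup Cfsg Cfsg.Agent.H455.Isolated Cfsg.Agent.H455.HardAct Cfsg.Agent.OrdDiv Cfsg.Agent.H436

universe u

variable {G : Type u} [Group G] [Finite G] {n : ℕ}

/-- the action of `G ⧸ K` -/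
theorem exists_act (hω : ∀ g : G, orderOf g ≤ n) (K : Subgroup G) [K.Normal] (hK : Group.IsNilpotent K) {s : ℕ}
    (hs : s.Prime) (hd : s ∣ Nat.card K) : ∃ (V : Type u) (_ : CommGroup V) (_ : Finite V)
      (φ : G ⧸ K →* MulAut V), (∃ v : V, v ≠ 1) ∧ (∀ p : ℕ, p.Prime → p ≠ s → ¬ p ∣ Nat.card V) ∧
      ∀ m : ℕ, m.Coprime s → n < m * s → Fpf φ m := by
  obtain ⟨V, hVc, hVf, φ, h1, _, h3, h4⟩ := CentAct.exists_act K hK hs hd
  refine ⟨V, hVc, hVf, φ, h1, h3, fun m hm hn => h4 m hm fun g hg => ?_⟩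
  have := hω g
  omega

omit [Finite G] in
/-- elements of order 9 -/
theorem exists_nine {g : G} (hg : orderOf g = 9) (K : Subgroup G) [K.Normal] (hK : ¬ 3 ∣ Nat.card K)
    (M : Subgroup (G ⧸ K)) [M.Normal] (hM : ¬ 3 ∣ M.index) : ∃ x : M, orderOf x = 9 := by
  have h1 : (g : G ⧸ K) ^ 3 ≠ 1 := by
    intro h
    rw [← QuotientGroup.mk_pow, QuotientGroup.eq_one_iff] at h
    have h2 : orderOf (g ^ 3) = 3 := by
      rw [orderOf_pow_of_dvd (by norm_num) (by rw [hg]; norm_num), hg]
    apply hK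
    rw [← h2, ← Subgroup.orderOf_mk (g ^ 3) h]
    exact orderOf_dvd_natCard _
  have h2 : (g : G ⧸ K) ^ 9 = 1 := by
    rw [← QuotientGroup.mk_pow, ← hg, pow_orderOf_eq_one, QuotientGroup.mk_one]
  have : Fact (Nat.Prime 3) := ⟨Nat.prime_three⟩
  have h3 : orderOf (g : G ⧸ K) = 3 ^ (1 + 1) := orderOf_eq_prime_pow (by rw [pow_one]; exact h1) (by
    norm_num
    exact h2)
  have h4 : (g : G ⧸ K) ∈ M := by
    rw [← QuotientGroup.eq_one_iff, ← orderOf_eq_one_iff]
    have h5 : orderOf (((g : G ⧸ K) : (G ⧸ K) ⧸ M)) ∣ 3 ^ 2 := by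
      apply orderOf_dvd_of_pow_eq_one
      rw [← QuotientGroup.mk_pow, show 3 ^ 2 = 9 by norm_num, h2, QuotientGroup.mk_one]
    have h6 : orderOf (((g : G ⧸ K) : (G ⧸ K) ⧸ M)) ∣ M.index := by
      rw [index_eq_card]
      exact orderOf_dvd_natCard _
    have h7 : (M.index).Coprime (3 ^ 2) :=
      Nat.Coprime.pow_right 2 ((Nat.prime_three.coprime_iff_not_dvd.2 hM).symm)
    exact Nat.dvd_one.1 (h7 ▸ Nat.dvd_gcd h6 h5)
  refine ⟨⟨_, h4⟩, ?_⟩
  rw [Subgroup.orderOf_mk, h3]
  norm_num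

/-- the index of `M` is prime to `p` -/
theorem not_dvd_index {r p a b : ℕ} (K : Subgroup G) [K.Normal] (hω : ∀ g : G, orderOf g ≤ n) (hn : n < 2 * r)
    (hr : r.Prime) (M : Subgroup (G ⧸ K)) [M.Normal] (hc : Nat.card M = r * b) (hb : b % r = a) (ha : 0 < a)
    (hp : p.Prime) (hpr : p ≠ r) (h : ¬ p * a ∣ r - 1) (hpa : Nat.Coprime r a) : ¬ p ∣ M.index := by
  intro hd
  have h1 := (Red.isolated_of hω hn).quotient K
  obtain ⟨c, hc⟩ := SylFrob.index_dvd h1 hr M hc hb ha
  have h2 : p * a ∣ r ^ c * (r - 1) := (Nat.mul_dvd_mul_right hd a).trans hc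
  apply h
  have h3 : (p * a).Coprime (r ^ c) := by
    apply Nat.Coprime.pow_right
    apply Nat.Coprime.mul_left
    · exact (Nat.coprime_primes hp hr).2 hpr
    · exact hpa.symm
  exact h3.dvd_of_dvd_mul_left h2

theorem order_le (hω : ∀ g : G, orderOf g ≤ n) (K : Subgroup G) [K.Normal] (x : G ⧸ K) : orderOf x ≤ n := by
  obtain ⟨g, rfl⟩ := QuotientGroup.mk_surjective x
  exact (Nat.le_of_dvd (orderOf_pos g) (orderOf_map_dvd (QuotientGroup.mk' K) g)).trans (hω g)

section cases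

variable (hω : ∀ g : G, orderOf g ≤ n) (hω' : ∀ k, 1 ≤ k → k ≤ n → ∃ g : G, orderOf g = k)
  (K : Subgroup G) [K.Normal] (hK : Group.IsNilpotent K) (M : Subgroup (G ⧸ K)) [M.Normal]

include hω hω' hK

theorem alt_seven (h9 : 9 ≤ n) (h10 : n ≤ 10) (e : M ≃* alternatingGroup (Fin 7)) (hc : Nat.card M = 2520) :
    False := by
  by_cases h3 : 3 ∣ Nat.card K
  · obtain ⟨V, hVc, hVf, φ, h1, h2, h4⟩ := exists_act hω K hK Nat.prime_three h3
    refine HardMat.alt_seven ((φ.comp M.subtype).comp e.symm.toMonoidHom) ?_ ?_ h1 (h2 5 (by norm_num) (by norm_num))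
    · exact ((h4 5 (by norm_num) (by omega)).comp _ M.subtype_injective).comp _ e.symm.injective
    · exact ((h4 4 (by norm_num) (by omega)).comp _ M.subtype_injective).comp _ e.symm.injective
  · obtain ⟨g, hg⟩ := hω' 9 (by norm_num) h9
    obtain ⟨x, hx⟩ := exists_nine hg K h3 M (not_dvd_index (r := 7) (b := 360) K hω (by omega) (by norm_num) M hc rfl
      (by norm_num) Nat.prime_three (by norm_num) (by norm_num) (by norm_num))
    exact NoNine.alt_seven (e x) (by rw [MulEquiv.orderOf_eq, hx])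

theorem psl_three_four (h9 : 9 ≤ n) (h10 : n ≤ 10) [IsSimpleGroup M] (hMc : ¬ IsMulCommutative M)
    {F : Type} [Field F] [Fintype F] (hF : Fintype.card F = 4)
    (e : M ≃* Matrix.ProjectiveSpecialLinearGroup (Fin 3) F) (hc : Nat.card M = 20160) : False := by
  by_cases h3 : 3 ∣ Nat.card K
  · obtain ⟨V, hVc, hVf, φ, h1, h2, h4⟩ := exists_act hω K hK Nat.prime_three h3
    obtain ⟨x, y, z, hx, hy, hxy, hz, hz1⟩ := HardMat.exists_quat hF
    refine quat_case (M := M) hMc (by norm_num : Nat.Prime 5) (by rw [hc]; norm_num) (φ.comp M.subtype) ?_ ?_ h1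
      (x := e.symm x) (y := e.symm y) (z := e.symm z) ?_ ?_ ?_ ?_ ?_
    · exact ((h4 5 (by norm_num) (by omega)).comp _ M.subtype_injective)
    · exact ((h4 4 (by norm_num) (by omega)).comp _ M.subtype_injective)
    · rw [← map_pow, hx]
    · rw [← map_pow, hy]
    · rw [← map_mul, ← map_pow, hxy]
    · rw [← map_pow, hz, map_one]
    · intro h
      apply hz1
      rw [← map_one e.symm] at h
      exact e.symm.injective h
  · obtain ⟨g, hg⟩ := hω' 9 (by norm_num) h9
    obtain ⟨x, hx⟩ := exists_nine hg K h3 M (not_dvd_index (r := 7) (b := 2880) K hω (by omega) (by norm_num) M hc rfl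
      (by norm_num) Nat.prime_three (by norm_num) (by norm_num) (by norm_num))
    exact NoNine.psl_three_four hF (e x) (by rw [MulEquiv.orderOf_eq, hx])

theorem psu_three_five (h9 : 9 ≤ n) (h10 : n ≤ 10) {F : Type} [Field F] [Fintype F] (hF : Fintype.card F = 5 ^ 2)
    (e : M ≃* Cfsg.PSU 3 F 5) (hc : Nat.card M = 126000) : False := by
  by_cases h3 : 3 ∣ Nat.card K
  · obtain ⟨V, hVc, hVf, φ, h1, h2, h4⟩ := exists_act hω K hK Nat.prime_three h3
    refine sq_case (M := M) (by norm_num : Nat.Prime 5) (by rw [hc]; norm_num) (φ.comp M.subtype) ?_ ?_ h1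
    · exact ((h4 5 (by norm_num) (by omega)).comp _ M.subtype_injective)
    · intro x hx
      have h5 := order_le hω K (x : G ⧸ K)
      rw [Subgroup.orderOf_coe, hx] at h5
      omega
  · obtain ⟨g, hg⟩ := hω' 9 (by norm_num) h9
    obtain ⟨x, hx⟩ := exists_nine hg K h3 M (not_dvd_index (r := 7) (b := 18000) K hω (by omega) (by norm_num) M hc rfl
      (by norm_num) Nat.prime_three (by norm_num) (by norm_num) (by norm_num))
    exact NoNine.psu_three_five hF (e x) (by rw [MulEquiv.orderOf_eq, hx])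

theorem m22 (h9 : 11 ≤ n) (h10 : n ≤ 12) (e : M ≃* Spor.M22) (hc : Nat.card M = 443520) : False := by
  by_cases h3 : 3 ∣ Nat.card K
  · obtain ⟨V, hVc, hVf, φ, h1, h2, h4⟩ := exists_act hω K hK Nat.prime_three h3
    refine frob_case (M := M) (r := 11) (b := 40320) (q := 5) (((Red.isolated_of hω (by omega)).quotient K).subgroup M)
      (by norm_num) hc rfl (by norm_num) (by norm_num) (by norm_num) (φ.comp M.subtype) ?_ ?_
      (h2 11 (by norm_num) (by norm_num)) h1
    · exact ((h4 11 (by norm_num) (by omega)).comp _ M.subtype_injective)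
    · exact ((h4 5 (by norm_num) (by omega)).comp _ M.subtype_injective)
  · obtain ⟨g, hg⟩ := hω' 9 (by norm_num) (by omega)
    obtain ⟨x, hx⟩ := exists_nine hg K h3 M (not_dvd_index (r := 11) (b := 40320) K hω (by omega) (by norm_num) M hc rfl
      (by norm_num) Nat.prime_three (by norm_num) (by norm_num) (by norm_num))
    exact NoNine.m22 (e x) (by rw [MulEquiv.orderOf_eq, hx])

omit hK in
/-- `5` divides the order of the radical -/
theorem five_dvd (h10 : n = 10) {a b : ℕ} (hc : Nat.card M = 7 * b) (hb : b % 7 = a) (ha : 0 < a)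
    (ha2 : ¬ 5 * a ∣ 6) (h7 : Nat.Coprime 7 a) (h5 : ¬ 5 ∣ b) : 5 ∣ Nat.card K := by
  obtain ⟨g, hg⟩ := hω' 5 (by norm_num) (by omega)
  have h1 : 5 ∣ Nat.card G := by
    rw [← hg]
    exact orderOf_dvd_natCard g
  have hp : Nat.Prime 5 := by norm_num
  rw [Subgroup.card_eq_card_quotient_mul_card_subgroup K, hp.dvd_mul] at h1
  rcases h1 with h1 | h1
  · exfalso
    rw [Subgroup.card_eq_card_quotient_mul_card_subgroup M, hp.dvd_mul] at h1
    rcases h1 with h1 | h1
    · rw [← index_eq_card] at h1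
      exact not_dvd_index (r := 7) K hω (by omega) (by norm_num) M hc hb ha hp (by norm_num) ha2 h7 h1
    · rw [hc, hp.dvd_mul] at h1
      rcases h1 with h1 | h1
      · revert h1
        norm_num
      · exact h5 h1
  · exact h1

theorem card_168 (h10 : n = 10) (hc : Nat.card M = 168) : False := by
  have h5 := five_dvd hω hω' K M h10 (b := 24) hc rfl (by norm_num) (by norm_num) (by norm_num) (by norm_num)
  obtain ⟨V, hVc, hVf, φ, h1, h2, h4⟩ := exists_act hω K hK (by norm_num : Nat.Prime 5) h5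
  refine frob_case (M := M) (r := 7) (b := 24) (q := 3) (((Red.isolated_of hω (by omega)).quotient K).subgroup M)
    (by norm_num) hc rfl (by norm_num) (by norm_num) (by norm_num) (φ.comp M.subtype) ?_ ?_
    (h2 7 (by norm_num) (by norm_num)) h1
  · exact ((h4 7 (by norm_num) (by omega)).comp _ M.subtype_injective)
  · exact ((h4 3 (by norm_num) (by omega)).comp _ M.subtype_injective)

theorem psl_two_eight (h10 : n = 10) [IsSimpleGroup M] {F : Type} [Field F] [Fintype F]
    (hF : Fintype.card F = 8) (e : M ≃* Matrix.ProjectiveSpecialLinearGroup (Fin 2) F) (hc : Nat.card M = 504) :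
    False := by
  have h5 := five_dvd hω hω' K M h10 (b := 72) hc rfl (by norm_num) (by norm_num) (by norm_num) (by norm_num)
  obtain ⟨V, hVc, hVf, φ, h1, h2, h4⟩ := exists_act hω K hK (by norm_num : Nat.Prime 5) h5
  have : IsSimpleGroup (Matrix.ProjectiveSpecialLinearGroup (Fin 2) F) :=
    (MulEquiv.isSimpleGroup_congr e).1 inferInstance
  refine HardMat.psl_two_eight hF ((φ.comp M.subtype).comp e.symm.toMonoidHom) ?_ h1
    (h2 2 (by norm_num) (by norm_num))
  exact ((h4 7 (by norm_num) (by omega)).comp _ M.subtype_injective).comp _ e.symm.injective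

end cases

end Cfsg.Agent.H455.Hard
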