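import Mathlib
import Cfsg.Agent.H455.SixPrimes

/-!
# The element orders are not `1, ..., n` with `n ≥ 47`
-/

set_option autoImplicit false

namespace Cfsg.Agent.H455.Large

theorem main {G : Type*} [Group G] [Finite G]
    (h3990 : ∀ (f : Fin 7 → ℕ) (_ : Function.Injective f) (_ : ∀ i, (f i).Prime ∧ f i ∣ Nat.card G),
      ∃ i j : Fin 7, i ≠ j ∧ Relation.ReflTransGen
        (fun a b : ℕ => a.Prime ∧ b.Prime ∧ a ≠ b ∧ ∃ g : G, orderOf g = a * b) (f i) (f j))
    {n : ℕ} (hn : 47 ≤ n) (h : Set.range (orderOf : G → ℕ) = {k : ℕ | 1 ≤ k ∧ k ≤ n}) : False := by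
  have hω : ∀ g : G, orderOf g ≤ n := fun g => by
    have h1 : orderOf g ∈ {k : ℕ | 1 ≤ k ∧ k ≤ n} := by
      rw [← h]
      exact ⟨g, rfl⟩
    exact h1.2
  have hω' : ∀ k, 1 ≤ k → k ≤ n → k ∣ Nat.card G := fun k h1 h2 => by
    have h3 : k ∈ Set.range (orderOf : G → ℕ) := by
      rw [h]
      exact ⟨h1, h2⟩
    obtain ⟨g, rfl⟩ := h3
    exact orderOf_dvd_natCard g
  obtain ⟨S, hS, hSp⟩ := SixPrimes.exists_six n hn
  let e := S.orderIsoOfFin hS
  let f : Fin 7 → ℕ := Fin.cons 2 fun i : Fin 6 => (e i : ℕ)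
  have hf0 : f 0 = 2 := rfl
  have hfs : ∀ i : Fin 6, f i.succ = (e i : ℕ) := fun i => rfl
  have hmem : ∀ i : Fin 6, (e i : ℕ) ∈ S := fun i => (e i).2
  have hbig : ∀ i : Fin 7, i ≠ 0 → (f i).Prime ∧ f i ≤ n ∧ n < 2 * f i := by
    intro i hi
    obtain ⟨j, rfl⟩ := Fin.exists_succ_eq.2 hi
    rw [hfs]
    exact hSp _ (hmem j)
  have hinj : Function.Injective f := by
    intro i j hij
    by_cases hi : i = 0
    · by_cases hj : j = 0
      · rw [hi, hj]
      · exfalso
        have h1 := hbig j hj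
        rw [← hij, hi, hf0] at h1
        omega
    · by_cases hj : j = 0
      · exfalso
        have h1 := hbig i hi
        rw [hij, hj, hf0] at h1
        omega
      · obtain ⟨i', rfl⟩ := Fin.exists_succ_eq.2 hi
        obtain ⟨j', rfl⟩ := Fin.exists_succ_eq.2 hj
        rw [hfs, hfs] at hij
        rw [e.injective (Subtype.ext hij)]
  obtain ⟨i, j, hij, hR⟩ := h3990 f hinj (by
    intro i
    by_cases hi : i = 0
    · rw [hi, hf0]
      exact ⟨Nat.prime_two, hω' 2 (by norm_num) (by omega)⟩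
    · obtain ⟨h1, h2, _⟩ := hbig i hi
      exact ⟨h1, hω' _ h1.one_lt.le h2⟩)
  -- an isolated prime is related to itself only
  have key : ∀ a b : ℕ, Relation.ReflTransGen
      (fun a b : ℕ => a.Prime ∧ b.Prime ∧ a ≠ b ∧ ∃ g : G, orderOf g = a * b) a b → n < 2 * a ∨ n < 2 * b → a = b := by
    have step : ∀ a b : ℕ, (a.Prime ∧ b.Prime ∧ a ≠ b ∧ ∃ g : G, orderOf g = a * b) → ¬ n < 2 * a ∧ ¬ n < 2 * b := by
      rintro a b ⟨ha, hb, _, g, hg⟩
      have h1 := hω g
      rw [hg] at h1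
      have h2 := ha.two_le
      have h3 := hb.two_le
      constructor <;> intro h4 <;> nlinarith
    intro a b hab hor
    rcases hor with h1 | h1
    · rcases Relation.ReflTransGen.cases_head hab with h2 | ⟨c, h2, _⟩
      · exact h2
      · exact absurd h1 (step a c h2).1
    · rcases Relation.ReflTransGen.cases_tail hab with h2 | ⟨c, _, h2⟩
      · exact h2.symm
      · exact absurd h1 (step c b h2).2
  apply hij
  apply hinj
  apply key _ _ hR
  by_cases hi : i = 0
  · right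
    exact (hbig j (fun h => hij (hi.trans h.symm))).2.2
  · left
    exact (hbig i hi).2.2

end Cfsg.Agent.H455.Large
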