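import Mathlib

/-!
# Lower bounds for element orders from orbits (helper455)
-/

set_option autoImplicit false

namespace Cfsg.Agent.H455.OrbitLen

/-- `x, f x, …, f^[n-1] x` are different from `p` -/
def run (f : ℕ → ℕ) (p : ℕ) : ℕ → ℕ → Bool
  | 0, _ => true
  | n + 1, x => !(Nat.beq x p) && run f p n (f x)

theorem run_spec (f : ℕ → ℕ) (p : ℕ) : ∀ (n x : ℕ), run f p n x = true → ∀ i < n, f^[i] x ≠ p
  | 0, _, _, i, hi => absurd hi (Nat.not_lt_zero i)
  | n + 1, x, h, i, hi => by
    rw [run, Bool.and_eq_true] at h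
    cases i with
    | zero =>
      intro hx
      rw [Function.iterate_zero, id] at hx
      rw [hx] at h
      simp at h
    | succ i =>
      rw [Function.iterate_succ_apply]
      exact run_spec f p n (f x) h.2 i (by omega)

theorem lt_orderOf {G X : Type*} [Group G] [Finite G] (φ : G →* Equiv.Perm X) (g : G) (v : X → ℕ) (f : ℕ → ℕ)
    (hf : ∀ x, v (φ g x) = f (v x)) (x : X) {N : ℕ} (h : run f (v x) N (f (v x)) = true) : N < orderOf g := by
  by_contra hlt
  push Not at hlt
  have hpos := orderOf_pos g
  have hit : ∀ i : ℕ, v ((φ g ^ i) x) = f^[i] (v x) := by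
    intro i
    induction i with
    | zero => rfl
    | succ i ih =>
      rw [pow_succ', Equiv.Perm.mul_apply, hf, ih, ← Function.iterate_succ_apply' f]
  have h1 := run_spec f (v x) N _ h (orderOf g - 1) (by omega)
  apply h1
  rw [← Function.iterate_succ_apply, Nat.succ_eq_add_one, Nat.sub_add_cancel hpos, ← hit, ← map_pow,
    pow_orderOf_eq_one, map_one]
  rfl

end Cfsg.Agent.H455.OrbitLen
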