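import Cfsg.Agent.H455.Hard
import Cfsg.Agent.H455.ElemC

/-!
# No finite group has element orders `1, ..., n` with `9 ≤ n ≤ 46`
-/

set_option autoImplicit false

namespace Cfsg.Agent.H455.Small

open Subgroup Cfsg Cfsg.Agent.H455.Isolated Cfsg.Agent.OrdDiv Cfsg.Agent.H436

universe u

/-- the alternating groups -/
theorem alt_case {n m : ℕ} (hn : 9 ≤ n) (hn' : n ≤ 46) (hm : 5 ≤ m)
    (h1 : ∀ r : ℕ, r.Prime → n < 2 * r → r ≤ n → r ≤ m)
    (h2 : ∀ x : alternatingGroup (Fin m), orderOf x ≤ n) (h3 : m ≤ 7 → ∀ r : ℕ, r.Prime → n < 2 * r → r ≤ n → r ≤ 7) :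
    m = 7 ∧ n ≤ 10 := by
  have key : ∀ r s : ℕ, r.Prime → s.Prime → r ≠ 2 → s ≠ 2 → r ≠ s → r + s ≤ m → r * s ≤ n := by
    intro r s hr hs hr2 hs2 hrs hle
    obtain ⟨x, hx⟩ := (Cfsg.Agent.S2466.result m r s hr hs hr2 hs2 hrs (by omega) (by omega)).2 hle
    rw [← hx]
    exact h2 x
  by_cases hm8 : 8 ≤ m
  · exfalso
    have h15 := key 3 5 (by norm_num) (by norm_num) (by norm_num) (by norm_num) (by norm_num) hm8
    norm_num at h15
    have h13 : 13 ≤ m := by
      by_cases h : n < 26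
      · exact h1 13 (by norm_num) (by omega) (by omega)
      · by_cases h' : n < 46
        · exact (by norm_num : 13 ≤ 23).trans (h1 23 (by norm_num) (by omega) (by omega))
        · exact (by norm_num : 13 ≤ 29).trans (h1 29 (by norm_num) (by omega) (by omega))
    have h35 := key 5 7 (by norm_num) (by norm_num) (by norm_num) (by norm_num) (by norm_num) (by omega)
    norm_num at h35
    have h31 : 31 ≤ m := h1 31 (by norm_num) (by omega) (by omega)
    have h221 := key 13 17 (by norm_num) (by norm_num) (by norm_num) (by norm_num) (by norm_num) (by omega)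
    norm_num at h221
    omega
  · have h4 := h3 (by omega)
    have h5 : n ≤ 10 := by
      by_contra hcon
      push Not at hcon
      by_cases h : n < 22
      · have := h4 11 (by norm_num) (by omega) (by omega)
        omega
      · by_cases h' : n < 38
        · have := h4 19 (by norm_num) (by omega) (by omega)
          omega
        · have := h4 37 (by norm_num) (by omega) (by omega)
          omega
    have h7 := h1 7 (by norm_num) (by omega) (by omega)
    exact ⟨by omega, h5⟩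

theorem main {G : Type u} [Group G] [Finite G] (hname : ∀ (M : Type u) [Group M] [Finite M] [IsSimpleGroup M]
      (_ : ¬ IsMulCommutative M), ∃ g, IsNamed g M) {n : ℕ} (hn : 9 ≤ n) (hn' : n ≤ 46)
    (h : Set.range (orderOf : G → ℕ) = {k : ℕ | 1 ≤ k ∧ k ≤ n}) : False := by
  have hω : ∀ g : G, orderOf g ≤ n := fun g => by
    have h1 : orderOf g ∈ {k : ℕ | 1 ≤ k ∧ k ≤ n} := by
      rw [← h]
      exact ⟨g, rfl⟩
    exact h1.2
  have hω' : ∀ k, 1 ≤ k → k ≤ n → ∃ g : G, orderOf g = k := fun k h1 h2 => by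
    have h3 : k ∈ Set.range (orderOf : G → ℕ) := by
      rw [h]
      exact ⟨h1, h2⟩
    exact h3
  obtain ⟨K, hKn, hnil, M, hMn, hMs, hMna, _, hMr⟩ := Red.reduce (by omega) h
  obtain ⟨g, hg⟩ := hname M hMna
  have hMω : ∀ x : M, orderOf x ≤ n := fun x => by
    have h1 := Hard.order_le hω K (x : G ⧸ K)
    rwa [Subgroup.orderOf_coe] at h1
  have hMp : ∀ p : ℕ, p.Prime → p ∣ Nat.card M → p ≤ n := fun p hp hpM => by
    have : Fact p.Prime := ⟨hp⟩
    obtain ⟨x, hx⟩ := exists_prime_orderOf_dvd_card' (G := M) p hpM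
    rw [← hx]
    exact hMω x
  rcases Final.named_final hn hn' hg.cond hg.eq hg.ord Nat.card_pos.ne' hMp
    (fun p hp h1 h2 => (hMr p hp h1 h2).2) with ⟨m, rfl, hm5, hm46⟩ | hmem
  · obtain ⟨e⟩ : Nonempty (M ≃* alternatingGroup (Fin m)) := hg.real
    have hcard : 2 * Nat.card M = m.factorial := hg.eq
    have h1 : ∀ r : ℕ, r.Prime → n < 2 * r → r ≤ n → r ≤ m := by
      intro r hr hr1 hr2
      have h3 : r ∣ m.factorial := by
        rw [← hcard]
        exact (hMr r hr hr1 hr2).2.mul_left 2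
      exact (hr.dvd_factorial).1 h3
    obtain ⟨rfl, h10⟩ := alt_case hn hn' hm5 h1 (fun x => by
      rw [← MulEquiv.orderOf_eq e.symm]
      exact hMω _) (fun h7 r hr hr1 hr2 => (h1 r hr hr1 hr2).trans h7)
    exact Hard.alt_seven hω hω' K hnil M hn h10 e (by
      have : Nat.factorial 7 = 5040 := by decide
      omega)
  · by_cases hh : g ∉ ElemC.hard
    · obtain ⟨x, hx⟩ := ElemC.big hg hmem hh
      exact absurd (hMω x) (by omega)
    · rw [not_not] at hh
      have hcase : (n ≤ 10 ∧ g = .psl 3 4) ∨ (n ≤ 10 ∧ g = .psu 3 5) ∨ (n = 10 ∧ g = .psl 3 2) ∨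
          (n = 10 ∧ g = .psl 2 7) ∨ (n = 10 ∧ g = .psl 2 8) ∨ (11 ≤ n ∧ n ≤ 12 ∧ g = .m22) := by
        simp only [ElemC.hard, List.mem_cons, List.not_mem_nil, or_false] at hh
        interval_cases n <;> rcases hh with rfl | rfl | rfl | rfl | rfl | rfl <;> revert hmem <;> decide
      rcases hcase with ⟨h10, rfl⟩ | ⟨h10, rfl⟩ | ⟨h10, rfl⟩ | ⟨h10, rfl⟩ | ⟨h10, rfl⟩ | ⟨h11, h12, rfl⟩
      · obtain ⟨F, _, _, hF, ⟨e⟩⟩ := hg.real
        exact Hard.psl_three_four hω hω' K hnil M hn h10 hMna hF e (by rw [hg.ord]; decide +kernel)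
      · obtain ⟨F, _, _, hF, ⟨e⟩⟩ := hg.real
        exact Hard.psu_three_five hω hω' K hnil M hn h10 hF e (by rw [hg.ord]; decide +kernel)
      · exact Hard.card_168 hω hω' K hnil M h10 (by rw [hg.ord]; decide +kernel)
      · exact Hard.card_168 hω hω' K hnil M h10 (by rw [hg.ord]; decide +kernel)
      · obtain ⟨F, _, _, hF, ⟨e⟩⟩ := hg.real
        exact Hard.psl_two_eight hω hω' K hnil M h10 hF e (by rw [hg.ord]; decide +kernel)
      · obtain ⟨e⟩ : Nonempty (M ≃* Spor.M22) := hg.real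
        exact Hard.m22 hω hω' K hnil M h11 h12 e (by rw [hg.ord]; decide +kernel)

end Cfsg.Agent.H455.Small
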