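import Cfsg.Agent.H436.KFourEx

/-!
# Known simple groups all of whose prime divisors are at most 43 (helper455)

`named_mem` : a name `g` in range whose order `c` is prime to all primes `p > 43` is one of the explicit finite list
`box`.  `sm` is a computable test for "all prime divisors at most 43".
-/

set_option autoImplicit false

namespace Cfsg.Agent.H455.Smooth

open Cfsg Cfsg.Agent.OrdDiv Cfsg.Agent.H436

/-- all prime divisors are at most 43 -/
def Sm (N : ℕ) : Prop := ∀ p : ℕ, p.Prime → p ∣ N → p ≤ 43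

/-- the product of the primes up to 43 -/
def P43 : ℕ := 13082761331670030

/-- iterated squaring modulo `N` -/
def sqmod (N : ℕ) : ℕ → ℕ → ℕ
  | x, 0 => x % N
  | x, k + 1 => sqmod N (x * x % N) k

/-- a computable test -/
def sm (N : ℕ) : Bool := Nat.ble (2 ^ 4096) N || Nat.beq (sqmod N P43 12) 0

theorem sqmod_eq (N : ℕ) : ∀ (k x : ℕ), sqmod N x k = x ^ 2 ^ k % N
  | 0, x => by simp [sqmod]
  | k + 1, x => by
    rw [sqmod, sqmod_eq N k, ← Nat.pow_mod, ← sq, ← pow_mul]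
    congr 2
    ring

theorem dvd_P43 {p : ℕ} (hp : p.Prime) (h : p ≤ 43) : p ∣ P43 := by
  have key : ∀ p ∈ List.range 44, (p ∣ P43) ∨ ¬ p.Prime := by
    intro p hp
    rw [List.mem_range] at hp
    interval_cases p <;> first | exact Or.inl (by decide) | exact Or.inr (by norm_num)
  exact (key p (List.mem_range.mpr (by omega))).resolve_right (fun h => h hp)

theorem dvd_pow_of_lt {N P K : ℕ} (h0 : N ≠ 0) (hb : N < 2 ^ K) (h : ∀ p : ℕ, p.Prime → p ∣ N → p ∣ P) :
    N ∣ P ^ K := by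
  rw [Nat.dvd_iff_prime_pow_dvd_dvd]
  intro p k hp hk
  rcases Nat.eq_zero_or_pos k with rfl | hk0
  · simp
  have h1 : p ∣ P := h p hp ((dvd_pow_self p (by omega)).trans hk)
  have h2 : k ≤ K := by
    by_contra hlt
    push Not at hlt
    have h3 : 2 ^ K ≤ p ^ k :=
      (Nat.pow_le_pow_right (by norm_num) hlt.le).trans (Nat.pow_le_pow_left hp.two_le k)
    have h4 := Nat.le_of_dvd (Nat.pos_of_ne_zero h0) hk
    omega
  exact (pow_dvd_pow_of_dvd h1 k).trans (pow_dvd_pow P h2)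

theorem Sm.test {N : ℕ} (h : Sm N) (h0 : N ≠ 0) : sm N = true := by
  unfold sm
  rcases Nat.lt_or_ge N (2 ^ 4096) with h1 | h1
  · rw [Bool.or_eq_true]
    right
    rw [Nat.beq_eq, sqmod_eq]
    exact Nat.mod_eq_zero_of_dvd (dvd_pow_of_lt (K := 2 ^ 12) h0 h1 fun p hp hpN => dvd_P43 hp (h p hp hpN))
  · rw [Bool.or_eq_true]
    left
    exact Nat.ble_eq.mpr h1

theorem Sm.mono {M N : ℕ} (h : Sm N) (hd : M ∣ N) : Sm M := fun p hp hM => h p hp (hM.trans hd)

theorem Sm.mul {M N : ℕ} (h : Sm M) (h' : Sm N) : Sm (M * N) := fun p hp hMN =>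
  (hp.dvd_mul.mp hMN).elim (h p hp) (h' p hp)

theorem Sm.of_le {M : ℕ} (h0 : M ≠ 0) (h : M ≤ 43) : Sm M := fun _ _ hd =>
  (Nat.le_of_dvd (Nat.pos_of_ne_zero h0) hd).trans h

/-- the prime powers `q` with `q (q² - 1)` smooth -/
def QS : List ℕ := [2, 3, 4, 5, 7, 8, 9, 11, 13, 16, 17, 19, 23, 25, 27, 29, 31, 32, 37, 41, 43, 49, 64, 81, 125, 169,
  289, 343, 961, 1024, 1331, 1681, 1849]

def primes43 : List ℕ := [2, 3, 5, 7, 11, 13, 17, 19, 23, 29, 31, 37, 41, 43]

theorem mem_primes43 {p : ℕ} (hp : p.Prime) (h : p ≤ 43) : p ∈ primes43 := by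
  have key : ∀ p ∈ List.range 44, (p ∈ primes43) ∨ ¬ p.Prime := by
    intro p hp
    rw [List.mem_range] at hp
    interval_cases p <;> first | exact Or.inl (by decide) | exact Or.inr (by norm_num)
  exact (key p (List.mem_range.mpr (by omega))).resolve_right (fun h => h hp)

theorem Prim.dvd_sub_one {q e r : ℕ} (h : Prim q e r) : e ∣ r - 1 := by
  rw [← h.dvd_iff]
  have h1 : (q : ZMod r) ^ (r - 1) = 1 := by
    have : Fact r.Prime := ⟨h.prime⟩
    apply ZMod.pow_card_sub_one_eq_one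
    intro h2
    exact h.not_dvd ((ZMod.natCast_eq_zero_iff q r).mp h2)
  rcases Nat.eq_zero_or_pos q with rfl | hq
  · exact absurd (dvd_zero r) h.not_dvd
  have h2 : 1 ≤ q ^ (r - 1) := Nat.one_le_pow _ _ hq
  rw [← ZMod.natCast_eq_zero_iff, Nat.cast_sub h2, Nat.cast_pow, h1, Nat.cast_one, sub_self]

theorem check_QS : ∀ p ∈ primes43, ∀ f ∈ List.range 22, f = 0 ∨ sm (p ^ f * ((p ^ f) ^ 2 - 1)) = false ∨ p ^ f ∈ QS := by
  decide +kernel

theorem mem_QS {q : ℕ} (hq : IsPrimePow q) (h : Sm (q * (q ^ 2 - 1))) : q ∈ QS := by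
  obtain ⟨p, f, hp, hf, rfl⟩ := (isPrimePow_nat_iff q).1 hq
  have hp43 : p ≤ 43 := h p hp ((dvd_pow_self p (by omega)).mul_right _)
  have hf22 : f < 22 := by
    by_contra hlt
    push Not at hlt
    obtain ⟨r, hr⟩ := exists_prim (q := p) (e := 2 * f) hp.two_le (by omega) (by omega)
    have h1 : r ≤ 43 := h r hr.prime (hr.dvd_mq dvd_rfl)
    have h2 := Nat.le_of_dvd (by have := hr.prime.two_le; omega) (Prim.dvd_sub_one hr)
    omega
  rcases check_QS p (mem_primes43 hp hp43) f (List.mem_range.mpr hf22) with h1 | h1 | h1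
  · omega
  · rw [h.test (mq_ne_zero hq.two_le)] at h1
    exact absurd h1 (by decide)
  · exact h1

theorem QS_two : ∀ q ∈ QS, 2 ≤ q := by decide

theorem Sm.of_ble {N : ℕ} (h : Sm N) (h0 : N ≠ 0) (hN : sm N = false) : False := by
  rw [h.test h0] at hN
  exact absurd hN (by decide)

theorem check_A : ∀ q ∈ QS, ∃ e ∈ List.range 8, 3 ≤ e ∧ sm (q ^ e - 1) = false := by decide +kernel
theorem check_B : ∀ q ∈ QS, ∃ e ∈ List.range 8, 1 ≤ e ∧ sm (q ^ (2 * e) - 1) = false := by decide +kernel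
theorem check_C : ∀ q ∈ QS, ∃ e ∈ List.range 11, sm (fU q e) = false := by decide +kernel

theorem pow_sub_ne {q e : ℕ} (hq : 2 ≤ q) (he : 1 ≤ e) : q ^ e - 1 ≠ 0 := by
  have : 2 ^ 1 ≤ q ^ e := (Nat.pow_le_pow_right (by norm_num) he).trans (Nat.pow_le_pow_left hq e)
  omega

theorem fU_ne {q e : ℕ} (hq : 2 ≤ q) : fU q e ≠ 0 := by
  unfold fU
  split
  · positivity
  · exact pow_sub_ne hq (by omega)

section Families

variable {q c : ℕ}

theorem prB_bound {m : ℕ} (hq : q ∈ QS) (h : Sm (prB q m)) : m < 7 := by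
  obtain ⟨e, he, h1, h2⟩ := check_B q hq
  rw [List.mem_range] at he
  by_contra hlt
  push Not at hlt
  have h3 := prB_dvd (q := q) (m := m) (i := e - 1) (by omega)
  rw [Nat.sub_add_cancel h1] at h3
  exact (h.mono h3).of_ble (pow_sub_ne (QS_two q hq) (by omega)) h2

theorem psl_box {n : ℕ} (hg : Cond (.psl n q)) (he : den (.psl n q) * c = num (.psl n q)) (h : Sm c) :
    q ∈ QS ∧ n < 7 := by
  obtain ⟨hn, -, hq⟩ := hg
  have hq2 := hq.two_le
  have hmq : Sm (q * (q ^ 2 - 1)) := by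
    rcases Nat.lt_or_ge n 3 with h3 | h3
    · obtain rfl : n = 2 := by omega
      have h1 : Nat.gcd 2 (q - 1) * (q - 1) * c = glN 2 q := he
      have h2 : glN 2 q = (q ^ 2 - 1) * (q * (q - 1)) := by
        have : glN 2 q = (q ^ 2 - q ^ 0) * ((q ^ 2 - q ^ 1) * 1) := rfl
        rw [this, pow_sub_pow q (show 2 = 1 + 1 by norm_num)]
        simp
      have h4 : q * (q ^ 2 - 1) = Nat.gcd 2 (q - 1) * c := by
        apply Nat.eq_of_mul_eq_mul_left (show 0 < q - 1 by omega)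
        calc (q - 1) * (q * (q ^ 2 - 1)) = (q ^ 2 - 1) * (q * (q - 1)) := by ring
          _ = Nat.gcd 2 (q - 1) * (q - 1) * c := by rw [h1, h2]
          _ = _ := by ring
      rw [h4]
      exact (Sm.mono (Sm.of_le (M := 2) (by norm_num) (by norm_num)) (Nat.gcd_dvd_left _ _)).mul h
    · exact h.mono (psl_mq h3 hq2 he)
  have hQ := mem_QS hq hmq
  refine ⟨hQ, ?_⟩
  obtain ⟨e, he', h1, h2⟩ := check_A q hQ
  rw [List.mem_range] at he'
  by_contra hlt
  push Not at hlt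
  have hsub : Sm (q - 1) := hmq.mono (((sq_sub q).symm ▸ Dvd.intro_left _ rfl : q - 1 ∣ q ^ 2 - 1).mul_left _)
  have hden : Sm (den (.psl n q)) := by
    change Sm (Nat.gcd n (q - 1) * (q - 1))
    exact (hsub.mono (Nat.gcd_dvd_right _ _)).mul hsub
  have hnum : Sm (glN n q) := by
    have := hden.mul h
    rw [he] at this
    exact this
  have h3 : q ^ e - 1 ∣ glN n q := by
    have h4 := dvd_list (fun i => q ^ n - q ^ i) (n := n) (i := n - e) (by omega)
    refine Dvd.dvd.trans ?_ h4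
    rw [pow_sub_pow q (show n = (n - e) + e by omega)]
    exact Dvd.intro_left _ rfl
  exact (hnum.mono h3).of_ble (pow_sub_ne hq2 (by omega)) h2

theorem psp_box {m : ℕ} (hg : Cond (.psp m q)) (he : den (.psp m q) * c = num (.psp m q)) (h : Sm c) :
    q ∈ QS ∧ m < 7 := by
  obtain ⟨hn, -, hq⟩ := hg
  have hQ := mem_QS hq (h.mono (psp_mq hn he))
  refine ⟨hQ, prB_bound hQ ?_⟩
  have h1 : Nat.gcd 2 (q - 1) * c = q ^ (m ^ 2) * prB q m := he
  refine Sm.mono ?_ (h1 ▸ Dvd.intro_left _ rfl : prB q m ∣ Nat.gcd 2 (q - 1) * c)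
  exact (Sm.mono (Sm.of_le (M := 2) (by norm_num) (by norm_num)) (Nat.gcd_dvd_left _ _)).mul h

theorem oodd_box {m : ℕ} (hg : Cond (.oodd m q)) (he : den (.oodd m q) * c = num (.oodd m q)) (h : Sm c) :
    q ∈ QS ∧ m < 7 := by
  obtain ⟨hn, ho, hq⟩ := hg
  have hQ := mem_QS hq (h.mono (oodd_mq (by omega) ho he))
  refine ⟨hQ, prB_bound hQ ?_⟩
  have h1 : 2 * c = q ^ (m ^ 2) * prB q m := he
  refine Sm.mono ?_ (h1 ▸ Dvd.intro_left _ rfl : prB q m ∣ 2 * c)
  exact (Sm.of_le (M := 2) (by norm_num) (by norm_num)).mul h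

theorem oplus_box {m : ℕ} (hg : Cond (.oplus m q)) (he : den (.oplus m q) * c = num (.oplus m q)) (h : Sm c) :
    q ∈ QS ∧ m < 8 := by
  obtain ⟨hn, hq⟩ := hg
  have hQ := mem_QS hq (h.mono (oplus_mq hn he))
  refine ⟨hQ, ?_⟩
  have h0 : m - 1 < 7 := by
    apply prB_bound hQ
    have h1 : Nat.gcd 4 (q ^ m - 1) * c = q ^ (m * (m - 1)) * ((q ^ m - 1) * prB q (m - 1)) := he
    refine Sm.mono ?_ (h1 ▸ (Dvd.intro_left (q ^ m - 1) rfl : prB q (m - 1) ∣ _).mul_left _ :
      prB q (m - 1) ∣ Nat.gcd 4 (q ^ m - 1) * c)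
    exact (Sm.mono (Sm.of_le (M := 4) (by norm_num) (by norm_num)) (Nat.gcd_dvd_left _ _)).mul h
  omega

theorem ominus_box {m : ℕ} (hg : Cond (.ominus m q)) (he : den (.ominus m q) * c = num (.ominus m q)) (h : Sm c) :
    q ∈ QS ∧ m < 8 := by
  obtain ⟨hn, hq⟩ := hg
  have hQ := mem_QS hq (h.mono (ominus_mq hn he))
  refine ⟨hQ, ?_⟩
  have h0 : m - 1 < 7 := by
    apply prB_bound hQ
    have h1 : Nat.gcd 4 (q ^ m + 1) * c = q ^ (m * (m - 1)) * ((q ^ m + 1) * prB q (m - 1)) := he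
    refine Sm.mono ?_ (h1 ▸ (Dvd.intro_left (q ^ m + 1) rfl : prB q (m - 1) ∣ _).mul_left _ :
      prB q (m - 1) ∣ Nat.gcd 4 (q ^ m + 1) * c)
    exact (Sm.mono (Sm.of_le (M := 4) (by norm_num) (by norm_num)) (Nat.gcd_dvd_left _ _)).mul h
  omega

theorem psu_box {n : ℕ} (hg : Cond (.psu n q)) (he : den (.psu n q) * c = num (.psu n q)) (h : Sm c) :
    q ∈ QS ∧ n < 11 := by
  obtain ⟨hn, -, hq⟩ := hg
  have hq2 := hq.two_le
  have hmq := h.mono (psu_mq hn he)
  have hQ := mem_QS hq hmq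
  refine ⟨hQ, ?_⟩
  obtain ⟨e, he', h2⟩ := check_C q hQ
  rw [List.mem_range] at he'
  by_contra hlt
  push Not at hlt
  have hadd : Sm (q + 1) := hmq.mono (((sq_sub q).symm ▸ Dvd.intro _ rfl : q + 1 ∣ q ^ 2 - 1).mul_left _)
  have hden : Sm (den (.psu n q)) := by
    change Sm (Nat.gcd n (q + 1) * (q + 1))
    exact (hadd.mono (Nat.gcd_dvd_right _ _)).mul hadd
  have hnum : Sm (q ^ (n * (n - 1) / 2) * prU q n) := by
    have := hden.mul h
    rw [he] at this
    exact this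
  have h3 : fU q e ∣ q ^ (n * (n - 1) / 2) * prU q n := (dvd_list (fU q) (n := n) (i := e) (by omega)).mul_left _
  exact (hnum.mono h3).of_ble (fU_ne hq2) h2

end Families

/-! ### exceptional groups -/

section Exceptional

variable {q c : ℕ}

theorem exc_box {P X B g : ℕ} (hq : IsPrimePow q) (h : Sm c) (he : g * c = P * X) (hg : 0 < g) (hP : q ∣ P)
    (hX : (q ^ 2 - 1) * B ∣ X) (hB : g ∣ B) : q ∈ QS :=
  mem_QS hq (h.mono (mq_dvd he hg hP hX hB))

theorem g2_box (hg : Cond (.g2 q)) (he : den (.g2 q) * c = num (.g2 q)) (h : Sm c) : q ∈ QS := by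
  have h1 : 1 * c = q ^ 6 * ((q ^ 2 - 1) * (q ^ 6 - 1)) := he
  exact exc_box (B := 1) hg.2 h h1 one_pos (dvd_pow_self q (by norm_num)) (by rw [mul_one]; exact Dvd.intro _ rfl) dvd_rfl

theorem f4_box (hg : Cond (.f4 q)) (he : den (.f4 q) * c = num (.f4 q)) (h : Sm c) : q ∈ QS := by
  have h1 : 1 * c = q ^ 24 * ((q ^ 2 - 1) * (q ^ 6 - 1) * (q ^ 8 - 1) * (q ^ 12 - 1)) := he
  exact exc_box (B := 1) hg h h1 one_pos (dvd_pow_self q (by norm_num))
    ⟨(q ^ 6 - 1) * (q ^ 8 - 1) * (q ^ 12 - 1), by ring⟩ dvd_rfl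

theorem e6_box (hg : Cond (.e6 q)) (he : den (.e6 q) * c = num (.e6 q)) (h : Sm c) : q ∈ QS := by
  have h1 : Nat.gcd 3 (q - 1) * c =
    q ^ 36 * ((q ^ 2 - 1) * (q ^ 5 - 1) * (q ^ 6 - 1) * (q ^ 8 - 1) * (q ^ 9 - 1) * (q ^ 12 - 1)) := he
  exact exc_box (B := q ^ 5 - 1) hg h h1 (Nat.gcd_pos_of_pos_left _ (by norm_num))
    (dvd_pow_self q (by norm_num)) ⟨(q ^ 6 - 1) * (q ^ 8 - 1) * (q ^ 9 - 1) * (q ^ 12 - 1), by ring⟩
    ((Nat.gcd_dvd_right _ _).trans (sub_dvd_pow_sub q 5))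

theorem e7_box (hg : Cond (.e7 q)) (he : den (.e7 q) * c = num (.e7 q)) (h : Sm c) : q ∈ QS := by
  have h1 : Nat.gcd 2 (q - 1) * c =
    q ^ 63 * ((q ^ 2 - 1) * (q ^ 6 - 1) * (q ^ 8 - 1) * (q ^ 10 - 1) * (q ^ 12 - 1) *
      (q ^ 14 - 1) * (q ^ 18 - 1)) := he
  exact exc_box (B := q ^ 6 - 1) hg h h1 (Nat.gcd_pos_of_pos_left _ (by norm_num))
    (dvd_pow_self q (by norm_num)) ⟨(q ^ 8 - 1) * (q ^ 10 - 1) * (q ^ 12 - 1) * (q ^ 14 - 1) * (q ^ 18 - 1), by ring⟩
    ((Nat.gcd_dvd_right _ _).trans (sub_dvd_pow_sub q 6))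

theorem e8_box (hg : Cond (.e8 q)) (he : den (.e8 q) * c = num (.e8 q)) (h : Sm c) : q ∈ QS := by
  have h1 : 1 * c =
    q ^ 120 * ((q ^ 2 - 1) * (q ^ 8 - 1) * (q ^ 12 - 1) * (q ^ 14 - 1) * (q ^ 18 - 1) *
      (q ^ 20 - 1) * (q ^ 24 - 1) * (q ^ 30 - 1)) := he
  exact exc_box (B := 1) hg h h1 one_pos
    (dvd_pow_self q (by norm_num)) ⟨(q ^ 8 - 1) * (q ^ 12 - 1) * (q ^ 14 - 1) * (q ^ 18 - 1) * (q ^ 20 - 1) *
      (q ^ 24 - 1) * (q ^ 30 - 1), by ring⟩ dvd_rfl

theorem te6_box (hg : Cond (.te6 q)) (he : den (.te6 q) * c = num (.te6 q)) (h : Sm c) : q ∈ QS := by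
  have h1 : Nat.gcd 3 (q + 1) * c =
    q ^ 36 * ((q ^ 2 - 1) * (q ^ 5 + 1) * (q ^ 6 - 1) * (q ^ 8 - 1) * (q ^ 9 + 1) * (q ^ 12 - 1)) := he
  exact exc_box (B := q ^ 5 + 1) hg h h1 (Nat.gcd_pos_of_pos_left _ (by norm_num))
    (dvd_pow_self q (by norm_num)) ⟨(q ^ 6 - 1) * (q ^ 8 - 1) * (q ^ 9 + 1) * (q ^ 12 - 1), by ring⟩
    ((Nat.gcd_dvd_right _ _).trans (add_dvd_pow_add q (by decide)))

theorem td4_box (hg : Cond (.td4 q)) (he : den (.td4 q) * c = num (.td4 q)) (h : Sm c) : q ∈ QS := by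
  have h1 : 1 * c = q ^ 12 * ((q ^ 2 - 1) * (q ^ 6 - 1) * (q ^ 8 + q ^ 4 + 1)) := he
  exact exc_box (B := 1) hg h h1 one_pos (dvd_pow_self q (by norm_num))
    ⟨(q ^ 6 - 1) * (q ^ 8 + q ^ 4 + 1), by ring⟩ dvd_rfl

theorem ree_box (hg : Cond (.ree q)) (he : den (.ree q) * c = num (.ree q)) (h : Sm c) : q ∈ [27] := by
  obtain ⟨m, hm, rfl⟩ := hg
  have h1 : 1 * c = (3 ^ (2 * m + 1)) ^ 3 * ((3 ^ (2 * m + 1) - 1) * ((3 ^ (2 * m + 1)) ^ 3 + 1)) := he
  obtain ⟨q, hq⟩ : ∃ q, q = 3 ^ (2 * m + 1) := ⟨_, rfl⟩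
  rw [← hq] at h1 ⊢
  have hqp : IsPrimePow q := by rw [hq]; exact Nat.prime_three.isPrimePow.pow (by omega)
  have hQ : q ∈ QS := by
    refine exc_box (B := 1) hqp h h1 one_pos (dvd_pow_self q (by norm_num)) ?_ dvd_rfl
    rw [mul_one, sq_sub, mul_comm]
    exact Nat.mul_dvd_mul_left _ (add_dvd_pow_add q (by decide))
  have key : ∀ q ∈ QS, q ∈ [27] ∨ q % 27 ≠ 0 ∨ q = 81 := by decide
  rcases key q hQ with h2 | h2 | h2
  · exact h2
  · exfalso
    apply h2
    rw [hq]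
    exact Nat.mod_eq_zero_of_dvd (pow_dvd_pow 3 (by omega : 3 ≤ 2 * m + 1))
  · exfalso
    rw [h2, show 81 = 3 ^ 4 by norm_num] at hq
    have := Nat.pow_right_injective (by norm_num : 2 ≤ 3) hq
    omega

theorem tf4_box (hg : Cond (.tf4 q)) (he : den (.tf4 q) * c = num (.tf4 q)) (h : Sm c) : q ∈ [8, 32] := by
  obtain ⟨m, hm, rfl⟩ := hg
  obtain ⟨q, hq⟩ : ∃ q, q = 2 ^ (2 * m + 1) := ⟨_, rfl⟩
  rw [← hq] at he ⊢
  have h1 : 1 * c = q ^ 12 * ((q - 1) * (q ^ 3 + 1) * (q ^ 4 - 1) * (q ^ 6 + 1)) := he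
  have hqp : IsPrimePow q := by rw [hq]; exact Nat.prime_two.isPrimePow.pow (by omega)
  have hQ : q ∈ QS := by
    refine exc_box (B := 1) hqp h h1 one_pos (dvd_pow_self q (by norm_num)) ?_ dvd_rfl
    rw [mul_one, sq_sub]
    have h2 : (q + 1) * (q - 1) ∣ (q ^ 3 + 1) * (q - 1) := Nat.mul_dvd_mul_right (add_dvd_pow_add q (by decide)) _
    exact h2.trans ⟨(q ^ 4 - 1) * (q ^ 6 + 1), by ring⟩
  have key : ∀ q ∈ QS, q ∈ [8, 32] ∨ q % 8 ≠ 0 ∨ q = 2 ^ 4 ∨ q = 2 ^ 6 ∨ q = 2 ^ 10 := by decide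
  rcases key q hQ with h2 | h2 | h2 | h2 | h2
  · exact h2
  · exfalso
    apply h2
    rw [hq]
    exact Nat.mod_eq_zero_of_dvd (pow_dvd_pow 2 (by omega : 3 ≤ 2 * m + 1))
  all_goals
    exfalso
    rw [h2] at hq
    have := Nat.pow_right_injective le_rfl hq
    omega

theorem sz_box (hg : Cond (.sz q)) (he : den (.sz q) * c = num (.sz q)) (h : Sm c) : q ∈ [8, 32, 128, 512] := by
  obtain ⟨m, hm, rfl⟩ := hg
  have h1 : 1 * c = (2 ^ (2 * m + 1)) ^ 2 * ((2 ^ (2 * m + 1) - 1) * ((2 ^ (2 * m + 1)) ^ 2 + 1)) := he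
  have hm5 : m < 5 := by
    by_contra hlt
    push Not at hlt
    obtain ⟨r, hr⟩ := exists_prim (q := 2) (e := 4 * (2 * m + 1)) le_rfl (by omega) (by omega)
    have h2 : r ∣ (2 ^ (2 * m + 1)) ^ 2 + 1 := by
      rw [← pow_mul]
      refine hr.dvd_add ⟨1, by ring⟩ ?_
      intro hd
      have := Nat.le_of_dvd (by omega) hd
      omega
    have h3 : r ∣ c := by
      rw [one_mul] at h1
      rw [h1]
      exact (h2.mul_left _).mul_left _
    have h4 := h r hr.prime h3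
    have h5 := Nat.le_of_dvd (by have := hr.prime.two_le; omega) (Prim.dvd_sub_one hr)
    omega
  interval_cases m <;> decide

theorem alt_box {n : ℕ} (he : den (.alt n) * c = num (.alt n)) (h : Sm c) : n < 47 := by
  by_contra hlt
  push Not at hlt
  have h1 : 2 * c = n.factorial := he
  have h2 : 47 ∣ 2 * c := by
    rw [h1]
    exact Nat.dvd_factorial (by norm_num) hlt
  have h3 : 47 ∣ c := (Nat.Coprime.dvd_of_dvd_mul_left (by norm_num) h2)
  have := h 47 (by norm_num) h3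
  omega

end Exceptional

/-- a finite list containing all names of simple groups with prime divisors at most 43 -/
def box : List Grp :=
  QS.flatMap (fun q =>
    (List.range 5).map (fun n => Grp.psl (n + 2) q) ++ (List.range 5).map (fun n => Grp.psp (n + 2) q) ++
    (List.range 8).map (fun n => Grp.psu (n + 3) q) ++ (List.range 4).map (fun n => Grp.oodd (n + 3) q) ++
    (List.range 4).map (fun n => Grp.oplus (n + 4) q) ++ (List.range 4).map (fun n => Grp.ominus (n + 4) q) ++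
    [.g2 q, .f4 q, .e6 q, .e7 q, .e8 q, .te6 q, .td4 q]) ++
  [.ree 27, .tf4 8, .tf4 32, .sz 8, .sz 32, .sz 128, .sz 512] ++
  (List.range 42).map (fun n => Grp.alt (n + 5)) ++ spor.map (fun x => x.1)

theorem mem_box_of {g : Grp} {q : ℕ} (hq : q ∈ QS)
    (h : g ∈ (List.range 5).map (fun n => Grp.psl (n + 2) q) ++ (List.range 5).map (fun n => Grp.psp (n + 2) q) ++
    (List.range 8).map (fun n => Grp.psu (n + 3) q) ++ (List.range 4).map (fun n => Grp.oodd (n + 3) q) ++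
    (List.range 4).map (fun n => Grp.oplus (n + 4) q) ++ (List.range 4).map (fun n => Grp.ominus (n + 4) q) ++
    [.g2 q, .f4 q, .e6 q, .e7 q, .e8 q, .te6 q, .td4 q]) : g ∈ box := by
  unfold box
  simp only [List.mem_append, List.mem_flatMap]
  left; left; left
  refine ⟨q, hq, ?_⟩
  simpa only [List.mem_append] using h

/-- **The known simple groups with all prime divisors at most 43 are in `box`.** -/
theorem named_mem {g : Grp} {c : ℕ} (hg : Cond g) (he : den g * c = num g) (h : Sm c) : g ∈ box := by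
  cases g with
  | alt n =>
    have h1 := alt_box he h
    have h2 : 5 ≤ n := hg
    unfold box
    simp only [List.mem_append, List.mem_map, List.mem_range]
    left; right
    exact ⟨n - 5, by omega, by rw [Nat.sub_add_cancel h2]⟩
  | psl n q =>
    obtain ⟨h1, h2⟩ := psl_box hg he h
    apply mem_box_of h1
    simp only [List.mem_append, List.mem_map, List.mem_range]
    have h3 : 2 ≤ n := hg.1
    left; left; left; left; left; left
    exact ⟨n - 2, by omega, by rw [Nat.sub_add_cancel h3]⟩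
  | psp n q =>
    obtain ⟨h1, h2⟩ := psp_box hg he h
    apply mem_box_of h1
    simp only [List.mem_append, List.mem_map, List.mem_range]
    have h3 : 2 ≤ n := hg.1
    left; left; left; left; left; right
    exact ⟨n - 2, by omega, by rw [Nat.sub_add_cancel h3]⟩
  | psu n q =>
    obtain ⟨h1, h2⟩ := psu_box hg he h
    apply mem_box_of h1
    simp only [List.mem_append, List.mem_map, List.mem_range]
    have h3 : 3 ≤ n := hg.1
    left; left; left; left; right
    exact ⟨n - 3, by omega, by rw [Nat.sub_add_cancel h3]⟩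
  | oodd n q =>
    obtain ⟨h1, h2⟩ := oodd_box hg he h
    apply mem_box_of h1
    simp only [List.mem_append, List.mem_map, List.mem_range]
    have h3 : 3 ≤ n := hg.1
    left; left; left; right
    exact ⟨n - 3, by omega, by rw [Nat.sub_add_cancel h3]⟩
  | oplus n q =>
    obtain ⟨h1, h2⟩ := oplus_box hg he h
    apply mem_box_of h1
    simp only [List.mem_append, List.mem_map, List.mem_range]
    have h3 : 4 ≤ n := hg.1
    left; left; right
    exact ⟨n - 4, by omega, by rw [Nat.sub_add_cancel h3]⟩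
  | ominus n q =>
    obtain ⟨h1, h2⟩ := ominus_box hg he h
    apply mem_box_of h1
    simp only [List.mem_append, List.mem_map, List.mem_range]
    have h3 : 4 ≤ n := hg.1
    left; right
    exact ⟨n - 4, by omega, by rw [Nat.sub_add_cancel h3]⟩
  | g2 q => exact mem_box_of (g2_box hg he h) (by simp)
  | f4 q => exact mem_box_of (f4_box hg he h) (by simp)
  | e6 q => exact mem_box_of (e6_box hg he h) (by simp)
  | e7 q => exact mem_box_of (e7_box hg he h) (by simp)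
  | e8 q => exact mem_box_of (e8_box hg he h) (by simp)
  | te6 q => exact mem_box_of (te6_box hg he h) (by simp)
  | td4 q => exact mem_box_of (td4_box hg he h) (by simp)
  | sz q =>
    have h1 := sz_box hg he h
    simp only [List.mem_cons, List.not_mem_nil, or_false] at h1
    unfold box
    simp only [List.mem_append]
    left; left; right
    rcases h1 with rfl | rfl | rfl | rfl <;> decide
  | ree q =>
    have h1 := ree_box hg he h
    simp only [List.mem_cons, List.not_mem_nil, or_false] at h1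
    unfold box
    simp only [List.mem_append]
    left; left; right
    rcases h1 with rfl
    decide
  | tf4 q =>
    have h1 := tf4_box hg he h
    simp only [List.mem_cons, List.not_mem_nil, or_false] at h1
    unfold box
    simp only [List.mem_append]
    left; left; right
    rcases h1 with rfl | rfl <;> decide
  | _ =>
    unfold box
    simp only [List.mem_append]
    right
    decide

end Cfsg.Agent.H455.Smooth
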