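import Mathlib
import Cfsg.Agent.PLocal.OmegaRankTwo

/-!
# Soft subgroups of finite `p`-groups

A subgroup `E` of a finite `p`-group `P` is soft when it is abelian, contains its centralizer and has
index `p` in its normalizer.  The overgroups of `E` form a chain with steps of index `p`, and the
`i`-th one (if proper) has class `i + 1`.
-/

set_option autoImplicit false

namespace Cfsg.Agent.H455.Soft

open Subgroup
open scoped commutatorElement

universe u

/-- `E` is abelian, contains its centralizer, and has index `p` in its normalizer -/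
structure IsSoft {P : Type u} [Group P] (p : ℕ) (E : Subgroup P) : Prop where
  ab : ∀ a ∈ E, ∀ b ∈ E, a * b = b * a
  cent : ∀ g : P, (∀ e ∈ E, g * e = e * g) → g ∈ E
  idx : E.relIndex (normalizer (E : Set P)) = p

/-- a subgroup lying properly between `E` and a group in which `E` has prime index -/
theorem eq_of_lt_of_prime_relIndex {P : Type u} [Group P] {p : ℕ} (hp : p.Prime)
    {E K N : Subgroup P} (hidx : E.relIndex N = p) (h : E < K) (hKN : K ≤ N) : K = N := by
  have h2 : E.relIndex K * K.relIndex N = E.relIndex N := relIndex_mul_relIndex _ _ _ h.le hKN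
  rw [hidx] at h2
  have h3 : E.relIndex K ≠ 1 := by
    intro h3
    rw [relIndex_eq_one] at h3
    exact absurd h3 (not_le_of_gt h)
  have h4 := ((Nat.dvd_prime hp).mp (Dvd.intro _ h2)).resolve_left h3
  rw [h4] at h2
  have h5 : K.relIndex N = 1 := by
    have h6 : p * K.relIndex N = p * 1 := by
      rw [h2, mul_one]
    exact Nat.eq_of_mul_eq_mul_left hp.pos h6
  rw [relIndex_eq_one] at h5
  exact le_antisymm hKN h5

section

variable {P : Type u} [Group P] [Finite P] {p : ℕ} [Fact p.Prime]

/-- in a finite `p`-group: a proper subgroup of `K` is proper in its normalizer in `K` -/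
theorem lt_normalizer_inf (hP : IsPGroup p P) {E K : Subgroup P} (h : E < K) :
    E < normalizer (E : Set P) ⊓ K := by
  have : Group.IsNilpotent K := (hP.to_subgroup K).isNilpotent
  have hnc : NormalizerCondition K := Group.normalizerCondition_of_isNilpotent
  have h1 : E.subgroupOf K < ⊤ := by
    rw [lt_top_iff_ne_top]
    intro h2
    rw [subgroupOf_eq_top] at h2
    exact absurd h2 (not_le_of_gt h)
  have h2 := hnc _ h1
  have h3 : normalizer ((E.subgroupOf K : Subgroup K) : Set K) =
      (normalizer (E : Set P)).subgroupOf K := by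
    rw [subgroupOf_normalizer_eq h.le]
  rw [h3] at h2
  refine lt_of_le_of_ne (le_inf le_normalizer h.le) ?_
  intro heq
  apply h2.ne
  ext x
  constructor
  · intro hx
    exact h2.le hx
  · intro hx
    have : (x : P) ∈ normalizer (E : Set P) ⊓ K := ⟨hx, x.2⟩
    rw [← heq] at this
    exact this

theorem normalizer_le_of_lt (hP : IsPGroup p P) {E K : Subgroup P}
    (hidx : E.relIndex (normalizer (E : Set P)) = p) (h : E < K) :
    normalizer (E : Set P) ≤ K := by
  have hp : p.Prime := Fact.out
  have h1 := lt_normalizer_inf hP h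
  have h2 := eq_of_lt_of_prime_relIndex hp hidx h1 inf_le_left
  rw [← h2]
  exact inf_le_right

/-- the second step, in the case `N(E)` normal -/
theorem index_of_normal (hP : IsPGroup p P) {E : Subgroup P} (hE : IsSoft p E)
    (hn : (normalizer (E : Set P)).Normal) (hne : normalizer (E : Set P) ≠ ⊤) :
    (normalizer (E : Set P)).index = p := by
  have hp : p.Prime := Fact.out
  obtain ⟨N, hN⟩ : ∃ N, N = normalizer (E : Set P) := ⟨_, rfl⟩
  rw [← hN] at hn hne ⊢
  have hEN : E ≤ N := hN ▸ le_normalizer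
  have hidx : E.relIndex N = p := hN ▸ hE.idx
  obtain ⟨Z, hZ⟩ : ∃ Z, Z = centralizer (N : Set P) := ⟨_, rfl⟩
  have hZn : Z.Normal := by rw [hZ]; infer_instance
  have hZE : Z ≤ E := by
    intro z hz
    apply hE.cent
    intro e he
    rw [hZ] at hz
    exact (mem_centralizer_iff.mp hz e (hEN he)).symm
  obtain ⟨g, hg⟩ : ∃ g : P, g ∉ N := by
    by_contra hcon
    push Not at hcon
    exact hne (eq_top_iff.mpr fun x _ => hcon x)
  obtain ⟨E', hE'⟩ : ∃ E', E' = E.map (MulAut.conj g : P →* P) := ⟨_, rfl⟩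
  have hE'N : E' ≤ N := by
    rw [hE']
    rintro _ ⟨e, he, rfl⟩
    exact hn.conj_mem e (hEN he) g
  have hcardE' : Nat.card E' = Nat.card E := by
    rw [hE']
    exact card_map_of_injective (MulAut.conj g).injective
  have hE'E : E' ≠ E := by
    intro h
    apply hg
    rw [hN, mem_normalizer_iff_map_conj_eq, ← hE', h]
  have hE'ab : ∀ a ∈ E', ∀ b ∈ E', a * b = b * a := by
    rw [hE']
    rintro _ ⟨a, ha, rfl⟩ _ ⟨b, hb, rfl⟩
    rw [← map_mul, ← map_mul, hE.ab a ha b hb]
  have hcN : Nat.card E * p = Nat.card N := by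
    have h1 := relIndex_mul_relIndex ⊥ E N bot_le hEN
    rw [relIndex_bot_left, relIndex_bot_left, hidx] at h1
    exact h1
  have hidx' : E'.relIndex N = p := by
    have h1 := relIndex_mul_relIndex ⊥ E' N bot_le hE'N
    rw [relIndex_bot_left, relIndex_bot_left, hcardE', ← hcN] at h1
    exact Nat.eq_of_mul_eq_mul_left Nat.card_pos h1
  have hsup : E ⊔ E' = N := by
    refine eq_of_lt_of_prime_relIndex hp hidx ?_ (sup_le hEN hE'N)
    refine lt_of_le_of_ne le_sup_left ?_
    intro h
    apply hE'E
    have h1 : E' ≤ E := by rw [h]; exact le_sup_right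
    exact eq_of_le_of_card_ge h1 hcardE'.ge
  have hinf : E ⊓ E' ≤ Z := by
    rintro x ⟨hx, hx'⟩
    have h1 : E ⊔ E' ≤ centralizer {x} := by
      refine sup_le ?_ ?_
      · intro y hy
        rw [mem_centralizer_iff]
        intro z hz
        rw [Set.mem_singleton_iff] at hz
        subst hz
        exact hE.ab z hx y hy
      · intro y hy
        rw [mem_centralizer_iff]
        intro z hz
        rw [Set.mem_singleton_iff] at hz
        subst hz
        exact hE'ab z hx' y hy
    rw [hsup] at h1
    rw [hZ, mem_centralizer_iff]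
    intro y hy
    exact (mem_centralizer_iff.mp (h1 hy) x rfl).symm
  have hle : Z.relIndex N ≤ p * p := by
    have h1 : (E ⊓ E').relIndex N ≤ p * p := by
      have := relIndex_inf_le (H := E) (K := E') (L := N)
      rwa [hidx, hidx'] at this
    refine (relIndex_le_of_le_left hinf ?_).trans h1
    exact (index_ne_zero_of_finite : ((E ⊓ E').subgroupOf N).index ≠ 0)
  have hmul : Z.relIndex E * p = Z.relIndex N := by
    rw [← hidx]
    exact relIndex_mul_relIndex _ _ _ hZE hEN
  have hZE1 : Z.relIndex E ≠ 1 := by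
    intro h
    rw [relIndex_eq_one] at h
    have h1 : Z = E := le_antisymm hZE h
    apply hne
    rw [hN, ← h1]
    exact normalizer_eq_top Z
  have hZEp : Z.relIndex E = p := by
    obtain ⟨k, hk⟩ := (hP.to_subgroup E).index (Z.subgroupOf E)
    have hk' : Z.relIndex E = p ^ k := hk
    rw [← hmul, hk'] at hle
    have h1 : p ^ k ≤ p := Nat.le_of_mul_le_mul_right hle hp.pos
    have h2 : k ≤ 1 := by
      by_contra hcon
      have h3 : p ^ 2 ≤ p ^ k := Nat.pow_le_pow_right hp.pos (by omega)
      have := hp.two_le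
      nlinarith
    interval_cases k
    · rw [pow_zero] at hk'
      exact absurd hk' hZE1
    · rw [hk', pow_one]
  have hX : Nat.card (N.map (QuotientGroup.mk' Z)) = p ^ 2 := by
    rw [← relIndex_ker, QuotientGroup.ker_mk', ← hmul, hZEp, sq]
  have hXn : (N.map (QuotientGroup.mk' Z)).Normal :=
    hn.map _ (QuotientGroup.mk'_surjective Z)
  have hdvd := Cfsg.Agent.PLocal.OmegaRankTwo.index_centralizer_dvd (hP.to_quotient Z)
    (N.map (QuotientGroup.mk' Z)) hX
  have hcle : (centralizer ((N.map (QuotientGroup.mk' Z) : Subgroup (P ⧸ Z)) : Set (P ⧸ Z))).comap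
      (QuotientGroup.mk' Z) ≤ N := by
    rw [hN, le_normalizer_iff, ← hN]
    intro h hh k hk
    rw [mem_comap, mem_centralizer_iff] at hh
    have h1 := hh (QuotientGroup.mk' Z k) ⟨k, hEN hk, rfl⟩
    have h2 : h * k * h⁻¹ * k⁻¹ ∈ Z := by
      rw [← QuotientGroup.eq_one_iff]
      have h3 : ((h * k * h⁻¹ * k⁻¹ : P) : P ⧸ Z) =
          (h : P ⧸ Z) * (k : P ⧸ Z) * (h : P ⧸ Z)⁻¹ * (k : P ⧸ Z)⁻¹ := rfl
      rw [h3]
      have h4 : (h : P ⧸ Z) * (k : P ⧸ Z) = (k : P ⧸ Z) * (h : P ⧸ Z) := h1.symm
      rw [h4]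
      group
    have h5 : h * k * h⁻¹ = (h * k * h⁻¹ * k⁻¹) * k := by group
    rw [h5]
    exact E.mul_mem (hZE h2) hk
  have h1 : N.index ∣ p := by
    refine (index_dvd_of_le hcle).trans ?_
    rw [index_comap_of_surjective _ (QuotientGroup.mk'_surjective Z)]
    exact hdvd
  refine ((Nat.dvd_prime hp).mp h1).resolve_left ?_
  rw [index_eq_one]
  exact hne

omit [Finite P] [Fact p.Prime] in
theorem IsSoft.subgroupOf {E M : Subgroup P} (hE : IsSoft p E)
    (hM : normalizer (E : Set P) ≤ M) : IsSoft p (E.subgroupOf M) := by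
  have hEM : E ≤ M := le_normalizer.trans hM
  refine ⟨?_, ?_, ?_⟩
  · intro a ha b hb
    exact Subtype.ext (hE.ab a ha b hb)
  · intro g hg
    rw [mem_subgroupOf]
    apply hE.cent
    intro e he
    have := hg ⟨e, hEM he⟩ he
    exact congrArg Subtype.val this
  · rw [← subgroupOf_normalizer_eq hEM, relIndex_subgroupOf hM]
    exact hE.idx

/-- the second step of the normalizer tower has index `p` -/
theorem relIndex_second (hP : IsPGroup p P) {E : Subgroup P} (hE : IsSoft p E)
    (hne : normalizer (E : Set P) ≠ ⊤) :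
    (normalizer (E : Set P)).relIndex
      (normalizer ((normalizer (E : Set P) : Subgroup P) : Set P)) = p := by
  obtain ⟨N, hN⟩ : ∃ N, N = normalizer (E : Set P) := ⟨_, rfl⟩
  rw [← hN] at hne ⊢
  obtain ⟨M, hM⟩ : ∃ M, M = normalizer (N : Set P) := ⟨_, rfl⟩
  rw [← hM]
  have hNM : N ≤ M := hM ▸ le_normalizer
  have hEN : E ≤ N := hN ▸ le_normalizer
  have hs : IsSoft p (E.subgroupOf M) := hE.subgroupOf (hN ▸ hNM)
  have h1 : normalizer ((E.subgroupOf M : Subgroup M) : Set M) = N.subgroupOf M := by
    rw [← subgroupOf_normalizer_eq (hEN.trans hNM), ← hN]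
  have h2 : (N.subgroupOf M).Normal := by
    rw [hM]; infer_instance
  have h3 : N.subgroupOf M ≠ ⊤ := by
    intro h3
    rw [subgroupOf_eq_top] at h3
    have h4 := lt_normalizer_inf hP (lt_top_iff_ne_top.mpr hne)
    rw [inf_top_eq, ← hM] at h4
    exact absurd h3 (not_le_of_gt h4)
  have h4 := index_of_normal (hP.to_subgroup M) hs (h1 ▸ h2) (h1 ▸ h3)
  rw [h1] at h4
  exact h4

end

section Quot

variable {P : Type u} [Group P] {p : ℕ}

theorem isSoft_map (Z : Subgroup P) [Z.Normal] (F : Subgroup P) (hZF : Z ≤ F)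
    (hab : ∀ a ∈ F, ∀ b ∈ F, ⁅a, b⁆ ∈ Z) (hcent : ∀ g : P, (∀ e ∈ F, ⁅g, e⁆ ∈ Z) → g ∈ F)
    (hidx : F.relIndex (normalizer (F : Set P)) = p) :
    IsSoft p (F.map (QuotientGroup.mk' Z)) := by
  have hcomm : ∀ a b : P, ⁅a, b⁆ ∈ Z ↔ (QuotientGroup.mk' Z a) * (QuotientGroup.mk' Z b) =
      (QuotientGroup.mk' Z b) * (QuotientGroup.mk' Z a) := by
    intro a b
    rw [← commutatorElement_eq_one_iff_mul_comm, ← map_commutatorElement,
      QuotientGroup.mk'_apply, QuotientGroup.eq_one_iff]
  have hcm : (F.map (QuotientGroup.mk' Z)).comap (QuotientGroup.mk' Z) = F := by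
    rw [comap_map_eq_self]
    rw [QuotientGroup.ker_mk']
    exact hZF
  have hsurj := QuotientGroup.mk'_surjective Z
  have hnn : (normalizer ((F.map (QuotientGroup.mk' Z) : Subgroup (P ⧸ Z)) : Set (P ⧸ Z))).comap
      (QuotientGroup.mk' Z) = normalizer (F : Set P) := by
    rw [comap_normalizer_eq_of_surjective _ hsurj, hcm]
  refine ⟨?_, ?_, ?_⟩
  · rintro _ ⟨a, ha, rfl⟩ _ ⟨b, hb, rfl⟩
    exact (hcomm a b).mp (hab a ha b hb)
  · intro g hg
    obtain ⟨g, rfl⟩ := hsurj g
    refine ⟨g, ?_, rfl⟩
    apply hcent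
    intro e he
    exact (hcomm g e).mpr (hg _ ⟨e, he, rfl⟩)
  · rw [← hidx, ← hnn]
    conv_rhs => rw [← hcm]
    rw [relIndex_comap, map_comap_eq_self_of_surjective hsurj, hcm]

theorem chain_of_map (Z : Subgroup P) [Z.Normal] (F : Subgroup P) (hZF : Z ≤ F)
    (h1 : ∀ K L : Subgroup (P ⧸ Z), F.map (QuotientGroup.mk' Z) ≤ K →
      F.map (QuotientGroup.mk' Z) ≤ L → K ≤ L ∨ L ≤ K)
    (h2 : ∀ K : Subgroup (P ⧸ Z), F.map (QuotientGroup.mk' Z) ≤ K → K ≠ ⊤ →
      K.relIndex (normalizer (K : Set (P ⧸ Z))) = p) :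
    (∀ K L : Subgroup P, F ≤ K → F ≤ L → K ≤ L ∨ L ≤ K) ∧
      (∀ K : Subgroup P, F ≤ K → K ≠ ⊤ → K.relIndex (normalizer (K : Set P)) = p) := by
  have hsurj := QuotientGroup.mk'_surjective Z
  have hcm : ∀ K : Subgroup P, F ≤ K →
      (K.map (QuotientGroup.mk' Z)).comap (QuotientGroup.mk' Z) = K := by
    intro K hK
    rw [comap_map_eq_self]
    rw [QuotientGroup.ker_mk']
    exact hZF.trans hK
  refine ⟨?_, ?_⟩
  · intro K L hK hL
    rcases h1 (K.map (QuotientGroup.mk' Z)) (L.map (QuotientGroup.mk' Z)) (map_mono hK)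
      (map_mono hL) with h | h
    · left
      rw [← hcm K hK, ← hcm L hL]
      exact comap_mono h
    · right
      rw [← hcm K hK, ← hcm L hL]
      exact comap_mono h
  · intro K hK hne
    have hne' : K.map (QuotientGroup.mk' Z) ≠ ⊤ := by
      intro h
      apply hne
      rw [← hcm K hK, h, comap_top]
    have h3 := h2 _ (map_mono hK) hne'
    have hnn : (normalizer ((K.map (QuotientGroup.mk' Z) : Subgroup (P ⧸ Z)) :
        Set (P ⧸ Z))).comap (QuotientGroup.mk' Z) = normalizer (K : Set P) := by
      rw [comap_normalizer_eq_of_surjective _ hsurj, hcm K hK]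
    rw [← hnn]
    conv_lhs => rw [← hcm K hK]
    rw [relIndex_comap, map_comap_eq_self_of_surjective hsurj, hcm K hK]
    exact h3

end Quot

variable {p : ℕ} [Fact p.Prime]

theorem chain (n : ℕ) : ∀ {P : Type u} [Group P] [Finite P], Nat.card P = n → IsPGroup p P →
    ∀ E : Subgroup P, IsSoft p E →
      (∀ K L : Subgroup P, E ≤ K → E ≤ L → K ≤ L ∨ L ≤ K) ∧
      (∀ K : Subgroup P, E ≤ K → K ≠ ⊤ → K.relIndex (normalizer (K : Set P)) = p) := by
  have hp : p.Prime := Fact.out
  induction n using Nat.strong_induction_on with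
  | _ n ih =>
  intro P _ _ hcard hP E hE
  by_cases hne : normalizer (E : Set P) = ⊤
  · have key : ∀ K : Subgroup P, E ≤ K → K = E ∨ K = ⊤ := by
      intro K hK
      by_cases h : E = K
      · exact Or.inl h.symm
      · right
        have := normalizer_le_of_lt hP hE.idx (lt_of_le_of_ne hK h)
        rw [hne] at this
        exact eq_top_iff.mpr this
    refine ⟨?_, ?_⟩
    · intro K L hK hL
      rcases key K hK with h | h
      · left; rw [h]; exact hL
      · right; rw [h]; exact le_top
    · intro K hK hKt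
      rw [(key K hK).resolve_right hKt]
      exact hE.idx
  · have hnt : Nontrivial P := by
      by_contra hcon
      rw [not_nontrivial_iff_subsingleton] at hcon
      apply hne
      exact Subsingleton.elim _ _
    have hcn : Nontrivial (center P) := hP.center_nontrivial
    have hlt : Nat.card (P ⧸ center P) < n := by
      have h1 := (center P).card_mul_index
      have h2 : (center P).index = Nat.card (P ⧸ center P) := rfl
      rw [h2, hcard] at h1
      have h3 : 1 < Nat.card (center P) := Finite.one_lt_card_iff_nontrivial.mpr hcn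
      have h4 : 0 < Nat.card (P ⧸ center P) := Nat.card_pos
      nlinarith
    have hZE : center P ≤ E := by
      intro z hz
      apply hE.cent
      intro e _
      exact (mem_center_iff.mp hz e).symm
    have hPq : IsPGroup p (P ⧸ center P) := hP.to_quotient _
    by_cases hc : ∀ g : P, (∀ e ∈ E, ⁅g, e⁆ ∈ center P) → g ∈ E
    · have hs : IsSoft p (E.map (QuotientGroup.mk' (center P))) := by
        refine isSoft_map _ _ hZE ?_ hc hE.idx
        intro a ha b hb
        rw [commutatorElement_eq_one_iff_mul_comm.mpr (hE.ab a ha b hb)]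
        exact one_mem _
      obtain ⟨h1, h2⟩ := ih _ hlt rfl hPq _ hs
      exact chain_of_map _ _ hZE h1 h2
    · -- the group of elements centralizing `E` modulo the centre is `N(E)`
      push Not at hc
      obtain ⟨w, hw, hwE⟩ := hc
      obtain ⟨N, hN⟩ : ∃ N, N = normalizer (E : Set P) := ⟨_, rfl⟩
      have hEN : E ≤ N := hN ▸ le_normalizer
      have hidxN : E.relIndex N = p := hN ▸ hE.idx
      -- centralizers modulo the centre
      let D : P → Subgroup P := fun x =>
        (centralizer {QuotientGroup.mk' (center P) x}).comap (QuotientGroup.mk' (center P))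
      have hD : ∀ x y : P, y ∈ D x ↔ ⁅y, x⁆ ∈ center P := by
        intro x y
        show y ∈ (centralizer {QuotientGroup.mk' (center P) x}).comap
          (QuotientGroup.mk' (center P)) ↔ _
        rw [mem_comap, mem_centralizer_iff, ← QuotientGroup.eq_one_iff]
        have h1 : ((⁅y, x⁆ : P) : P ⧸ center P) =
          ⁅QuotientGroup.mk' (center P) y, QuotientGroup.mk' (center P) x⁆ := rfl
        rw [h1, commutatorElement_eq_one_iff_mul_comm]
        constructor
        · intro h
          exact (h _ rfl).symm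
        · intro h z hz
          rw [Set.mem_singleton_iff] at hz
          subst hz
          exact h.symm
      have hDsymm : ∀ x y : P, ⁅x, y⁆ ∈ center P → ⁅y, x⁆ ∈ center P := by
        intro x y h
        rw [← commutatorElement_inv]
        exact inv_mem h
      let W : Subgroup P := ⨅ e : E, D e
      have hW : ∀ y, y ∈ W ↔ ∀ e ∈ E, ⁅y, e⁆ ∈ center P := by
        intro y
        show y ∈ ⨅ e : E, D e ↔ _
        rw [mem_iInf]
        constructor
        · intro h e he
          exact (hD e y).mp (h ⟨e, he⟩)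
        · rintro h ⟨e, he⟩
          exact (hD e y).mpr (h e he)
      have hEW : E < W := by
        refine lt_of_le_of_ne ?_ ?_
        · intro a ha
          rw [hW]
          intro b hb
          rw [commutatorElement_eq_one_iff_mul_comm.mpr (hE.ab a ha b hb)]
          exact one_mem _
        · intro h
          apply hwE
          rw [h, hW]
          exact hw
      have hWN : W ≤ N := by
        rw [hN, le_normalizer_iff]
        intro x hx k hk
        have h1 := (hW x).mp hx k hk
        have h2 : x * k * x⁻¹ = ⁅x, k⁆ * k := by rw [commutatorElement_def]; group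
        rw [h2]
        exact E.mul_mem (hZE h1) hk
      have hWN' : W = N := eq_of_lt_of_prime_relIndex hp hidxN hEW hWN
      have hNE : ∀ x ∈ N, ∀ e ∈ E, ⁅x, e⁆ ∈ center P := by
        intro x hx
        rw [← hWN'] at hx
        exact (hW x).mp hx
      have hNN : ∀ x ∈ N, ∀ y ∈ N, ⁅x, y⁆ ∈ center P := by
        intro x hx y hy
        by_cases hyE : y ∈ E
        · exact hNE x hx y hyE
        · have h1 : E < N ⊓ D y := by
            refine lt_of_le_of_ne ?_ ?_
            · refine le_inf hEN ?_
              intro e he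
              rw [hD]
              exact hDsymm _ _ (hNE y hy e he)
            · intro h
              apply hyE
              rw [h]
              refine ⟨hy, ?_⟩
              refine (hD y y).mpr ?_
              rw [commutatorElement_self]
              exact one_mem _
          have h2 := eq_of_lt_of_prime_relIndex hp hidxN h1 inf_le_left
          rw [← h2] at hx
          exact (hD y x).mp hx.2
      have hs : IsSoft p (N.map (QuotientGroup.mk' (center P))) := by
        refine isSoft_map _ _ (hZE.trans hEN) hNN ?_ ?_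
        · intro g hg
          rw [← hWN', hW]
          intro e he
          exact hg e (hEN he)
        · rw [hN]
          exact relIndex_second hP hE hne
      obtain ⟨h1, h2⟩ := ih _ hlt rfl hPq _ hs
      obtain ⟨h3, h4⟩ := chain_of_map _ _ (hZE.trans hEN) h1 h2
      have key : ∀ K : Subgroup P, E ≤ K → K = E ∨ N ≤ K := by
        intro K hK
        by_cases h : E = K
        · exact Or.inl h.symm
        · right
          rw [hN]
          exact normalizer_le_of_lt hP hE.idx (lt_of_le_of_ne hK h)
      refine ⟨?_, ?_⟩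
      · intro K L hK hL
        rcases key K hK with h | h
        · left; rw [h]; exact hL
        · rcases key L hL with h' | h'
          · right; rw [h']; exact hK
          · exact h3 K L h h'
      · intro K hK hKt
        rcases key K hK with h | h
        · rw [h]; exact hE.idx
        · exact h4 K h hKt

section Class

variable {P : Type u} [Group P] [Finite P]

/-- the terms of the upper central series of `K`, as subgroups of `P` -/
def U (K : Subgroup P) (j : ℕ) : Subgroup P := (Subgroup.upperCentralSeries K j).map K.subtype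

omit [Finite P] in
theorem U_le (K : Subgroup P) (j : ℕ) : U K j ≤ K := map_subtype_le _

omit [Finite P] in
theorem U_zero (K : Subgroup P) : U K 0 = ⊥ := by
  rw [U, Subgroup.upperCentralSeries_zero, Subgroup.map_bot]

omit [Finite P] in
theorem mem_U_succ (K : Subgroup P) (j : ℕ) (x : P) :
    x ∈ U K (j + 1) ↔ x ∈ K ∧ ∀ y ∈ K, ⁅x, y⁆ ∈ U K j := by
  constructor
  · rintro ⟨⟨x, hx⟩, hxU, rfl⟩
    refine ⟨hx, ?_⟩
    intro y hy
    have := (Subgroup.mem_upperCentralSeries_succ_iff (G := K)).mp hxU ⟨y, hy⟩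
    exact ⟨_, this, rfl⟩
  · rintro ⟨hx, h⟩
    refine ⟨⟨x, hx⟩, ?_, rfl⟩
    rw [SetLike.mem_coe, Subgroup.mem_upperCentralSeries_succ_iff]
    rintro ⟨y, hy⟩
    obtain ⟨z, hz, hzy⟩ := h y hy
    have : ⁅(⟨x, hx⟩ : K), (⟨y, hy⟩ : K)⁆ = z := by
      apply Subtype.ext
      exact hzy.symm
    rw [this]
    exact hz

omit [Finite P] in
theorem U_mono (K : Subgroup P) (j : ℕ) : U K j ≤ U K (j + 1) :=
  map_mono (Subgroup.upperCentralSeries_mono K (Nat.le_succ j))

omit [Finite P] in
theorem U_conj (K : Subgroup P) (j : ℕ) : ∀ g ∈ normalizer (K : Set P), ∀ u ∈ U K j,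
    g * u * g⁻¹ ∈ U K j := by
  induction j with
  | zero =>
    intro g _ u hu
    rw [U_zero, mem_bot] at hu ⊢
    rw [hu]; group
  | succ j ih =>
    intro g hg u hu
    rw [mem_U_succ] at hu ⊢
    refine ⟨(mem_normalizer_iff.mp hg u).mp hu.1, ?_⟩
    intro y hy
    have hg' : g⁻¹ ∈ normalizer (K : Set P) := inv_mem hg
    have hy' : g⁻¹ * y * g ∈ K := by
      have := (mem_normalizer_iff.mp hg' y).mp hy
      rwa [inv_inv] at this
    have h1 := ih g hg _ (hu.2 _ hy')
    have h2 : g * ⁅u, g⁻¹ * y * g⁆ * g⁻¹ = ⁅g * u * g⁻¹, y⁆ := by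
      simp only [commutatorElement_def]
      group
    rwa [h2] at h1

omit [Finite P] in
theorem U_le_normalizer_sup (K E : Subgroup P) (hEK : E ≤ K) (j : ℕ) :
    U K (j + 1) ⊔ E ≤ normalizer ((U K j ⊔ E : Subgroup P) : Set P) := by
  refine sup_le ?_ (le_sup_right.trans le_normalizer)
  rw [le_normalizer_iff]
  intro u hu k hk
  have hkK : k ∈ K := (sup_le (U_le K j) hEK) hk
  have h1 := ((mem_U_succ K j u).mp hu).2 k hkK
  have h2 : u * k * u⁻¹ = ⁅u, k⁆ * k := by rw [commutatorElement_def]; group
  rw [h2]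
  exact mul_mem ((le_sup_left : U K j ≤ U K j ⊔ E) h1) hk

omit [Finite P] in
/-- elements of `U_{j+1} E` commute with `E` modulo `U_j` -/
theorem comm_mem_U (K E : Subgroup P) (hEK : E ≤ K) (hab : ∀ a ∈ E, ∀ b ∈ E, a * b = b * a)
    (j : ℕ) (x : P) (hx : x ∈ U K (j + 1) ⊔ E) (e : P) (he : e ∈ E) : ⁅x, e⁆ ∈ U K j := by
  have h1 : U K (j + 1) ⊔ E =
      (Subgroup.upperCentralSeries K (j + 1) ⊔ E.subgroupOf K).map K.subtype := by
    rw [Subgroup.map_sup, subgroupOf_map_subtype, inf_eq_left.mpr hEK]
    rfl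
  rw [h1] at hx
  obtain ⟨y, hy, rfl⟩ := hx
  obtain ⟨v, hv, w, hw, rfl⟩ := mem_sup_of_normal_left.mp hy
  have hv' : (v : P) ∈ U K (j + 1) := ⟨v, hv, rfl⟩
  have hw' : (w : P) ∈ E := hw
  have h2 := ((mem_U_succ K j _).mp hv').2 e (hEK he)
  have h3 : ⁅K.subtype (v * w), e⁆ = ⁅(v : P), e⁆ := by
    simp only [commutatorElement_def, Subgroup.coe_subtype, Subgroup.coe_mul, mul_inv_rev]
    have h4 := hab w hw' e he
    calc (v : P) * w * e * ((w : P)⁻¹ * (v : P)⁻¹) * e⁻¹
        = (v : P) * ((w : P) * e) * ((w : P)⁻¹ * (v : P)⁻¹) * e⁻¹ := by group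
      _ = (v : P) * (e * w) * ((w : P)⁻¹ * (v : P)⁻¹) * e⁻¹ := by rw [h4]
      _ = (v : P) * e * (v : P)⁻¹ * e⁻¹ := by group
  rw [h3]
  exact h2

theorem nilpotencyClass_eq (hP : IsPGroup p P) {E : Subgroup P} (hE : IsSoft p E)
    {K : Subgroup P} [Group.IsNilpotent K] (hEK : E ≤ K) (hK : K ≠ ⊤) (i : ℕ)
    (hi : E.relIndex K = p ^ i) : Group.nilpotencyClass K = i + 1 := by
  have hp : p.Prime := Fact.out
  obtain ⟨-, hch⟩ := chain (Nat.card P) rfl hP E hE
  -- `U 1 ≤ E`
  have hU1 : U K 1 ≤ E := by
    intro u hu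
    apply hE.cent
    intro e he
    have h1 := ((mem_U_succ K 0 u).mp hu).2 e (hEK he)
    rw [U_zero, mem_bot, commutatorElement_eq_one_iff_mul_comm] at h1
    exact h1
  have hLK : ∀ j, U K j ⊔ E ≤ K := fun j => sup_le (U_le K j) hEK
  have hLne : ∀ j, U K j ⊔ E ≠ ⊤ := by
    intro j h
    exact hK (eq_top_iff.mpr (h ▸ hLK j))
  have hLmono : ∀ j, U K j ⊔ E ≤ U K (j + 1) ⊔ E := fun j => sup_le_sup_right (U_mono K j) E
  have hstep : ∀ j, (U K j ⊔ E).relIndex (U K (j + 1) ⊔ E) ∣ p := by
    intro j
    have h1 := relIndex_mul_relIndex _ _ _ (hLmono j) (U_le_normalizer_sup K E hEK j)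
    rw [hch _ le_sup_right (hLne j)] at h1
    exact Dvd.intro _ h1
  have hmul : ∀ j, E.relIndex (U K j ⊔ E) * (U K j ⊔ E).relIndex (U K (j + 1) ⊔ E) =
      E.relIndex (U K (j + 1) ⊔ E) := fun j =>
    relIndex_mul_relIndex _ _ _ le_sup_right (hLmono j)
  have hL1 : U K 1 ⊔ E = E := sup_eq_right.mpr hU1
  have hlow : ∀ j, E.relIndex (U K (j + 1) ⊔ E) ∣ p ^ j := by
    intro j
    induction j with
    | zero =>
      rw [zero_add, hL1, relIndex_self, pow_zero]
    | succ j ih =>
      rw [← hmul (j + 1), pow_succ]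
      exact mul_dvd_mul ih (hstep (j + 1))
  have hLB : ∀ j, U K (j + 1) = K → i ≤ j := by
    intro j hj
    have h1 := hlow j
    rw [hj, sup_eq_left.mpr hEK, hi] at h1
    exact (Nat.pow_dvd_pow_iff_le_right hp.one_lt).mp h1
  have htop : ∀ j, U K j = K ↔ Subgroup.upperCentralSeries K j = ⊤ := by
    intro j
    constructor
    · intro h
      rw [eq_top_iff]
      rintro ⟨x, hx⟩ _
      rw [← h] at hx
      obtain ⟨y, hy, hyx⟩ := hx
      have : y = ⟨x, by assumption⟩ := Subtype.ext hyx
      rw [← this]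
      exact hy
    · intro h
      rw [U, h, ← MonoidHom.range_eq_map, range_subtype]
  -- the normal closure of `E` in `N(K)` is `K`
  obtain ⟨M, hM⟩ : ∃ M, M = normalizer (K : Set P) := ⟨_, rfl⟩
  have hKM : K < M := by
    have := lt_normalizer_inf hP (lt_top_iff_ne_top.mpr hK)
    rwa [inf_top_eq, ← hM] at this
  have hNC : ∀ D : Subgroup P, (∀ g ∈ M, ∀ e ∈ E, g * e * g⁻¹ ∈ D) → K ≤ D := by
    intro D hD
    let F : Subgroup P := ⨆ g : M, E.map (MulAut.conj (g : P) : P →* P)
    have hFD : F ≤ D := by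
      refine iSup_le ?_
      rintro ⟨g, hg⟩
      rintro _ ⟨e, he, rfl⟩
      exact hD g hg e he
    have hFK : F ≤ K := by
      refine iSup_le ?_
      rintro ⟨g, hg⟩
      rintro _ ⟨e, he, rfl⟩
      rw [hM] at hg
      exact (mem_normalizer_iff.mp hg e).mp (hEK he)
    have hEF : E ≤ F := by
      refine le_trans ?_ (le_iSup (fun g : M => E.map (MulAut.conj (g : P) : P →* P)) 1)
      intro e he
      exact ⟨e, he, by simp⟩
    have hMF : M ≤ normalizer (F : Set P) := by
      rw [le_normalizer_iff]
      intro g hg k hk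
      have h1 : F ≤ F.comap (MulAut.conj g : P →* P) := by
        refine iSup_le ?_
        rintro ⟨h, hh⟩
        rintro _ ⟨e, he, rfl⟩
        rw [mem_comap]
        have h2 : E.map (MulAut.conj ((⟨g * h, M.mul_mem hg hh⟩ : M) : P) : P →* P) ≤ F :=
          le_iSup (fun g : M => E.map (MulAut.conj (g : P) : P →* P)) _
        apply h2
        refine ⟨e, he, ?_⟩
        simp [mul_assoc]
      exact h1 hk
    have hFne : F ≠ ⊤ := fun h => hK (eq_top_iff.mpr (h ▸ hFK))
    have hFK' : F = K := by
      by_contra hcon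
      have h1 : K = normalizer (F : Set P) :=
        eq_of_lt_of_prime_relIndex hp (hch F hEF hFne) (lt_of_le_of_ne hFK hcon)
          (hKM.le.trans hMF)
      rw [← h1] at hMF
      exact absurd hMF (not_le_of_gt hKM)
    rw [← hFK']
    exact hFD
  -- the subgroup of elements of `K` commuting with `u` modulo `U j`
  have hcommK : ∀ j, ∀ T : Subgroup P, T ≤ U K (j + 1) ⊔ E → (∀ g ∈ M, ∀ t ∈ T, g * t * g⁻¹ ∈ T) →
      T ≤ U K (j + 1) := by
    intro j T hT hTM u hu
    rw [mem_U_succ]
    refine ⟨hLK _ (hT hu), ?_⟩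
    let D : Subgroup P :=
      { carrier := {x | x ∈ K ∧ ⁅u, x⁆ ∈ U K j}
        one_mem' := by
          refine ⟨K.one_mem, ?_⟩
          rw [commutatorElement_one_right]
          exact one_mem _
        mul_mem' := by
          rintro a b ⟨haK, ha⟩ ⟨hbK, hb⟩
          refine ⟨K.mul_mem haK hbK, ?_⟩
          have h1 : ⁅u, a * b⁆ = ⁅u, a⁆ * (a * ⁅u, b⁆ * a⁻¹) := by
            simp only [commutatorElement_def]; group
          rw [h1]
          exact mul_mem ha (U_conj K j a (le_normalizer haK) _ hb)
        inv_mem' := by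
          rintro a ⟨haK, ha⟩
          refine ⟨K.inv_mem haK, ?_⟩
          have h1 : ⁅u, a⁻¹⁆ = a⁻¹ * ⁅u, a⁆⁻¹ * a⁻¹⁻¹ := by
            simp only [commutatorElement_def]; group
          rw [h1]
          exact U_conj K j _ (le_normalizer (K.inv_mem haK)) _ (inv_mem ha) }
    have hKD : K ≤ D := by
      apply hNC
      intro g hg e he
      refine ⟨?_, ?_⟩
      · rw [hM] at hg
        exact (mem_normalizer_iff.mp hg e).mp (hEK he)
      · have h1 : g⁻¹ * u * g⁻¹⁻¹ ∈ T := hTM _ (M.inv_mem hg) u hu
        have h2 := comm_mem_U K E hEK hE.ab j _ (hT h1) e he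
        rw [hM] at hg
        have h3 := U_conj K j g hg _ h2
        have h4 : g * ⁅g⁻¹ * u * g⁻¹⁻¹, e⁆ * g⁻¹ = ⁅u, g * e * g⁻¹⁆ := by
          simp only [commutatorElement_def]; group
        rwa [h4] at h3
    intro y hy
    exact (hKD hy).2
  have hup : ∀ j, j ≤ i → p ^ j ∣ E.relIndex (U K (j + 1) ⊔ E) := by
    intro j
    induction j with
    | zero => intro _; rw [pow_zero]; exact one_dvd _
    | succ j ih =>
      intro hji
      have h1 := ih (by omega)
      rcases (Nat.dvd_prime hp).mp (hstep (j + 1)) with h2 | h2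
      · exfalso
        rw [relIndex_eq_one] at h2
        have h3 : U K (j + 1 + 1) ≤ U K (j + 1) := by
          apply hcommK j _ (le_sup_left.trans h2)
          intro g hg t ht
          rw [hM] at hg
          exact U_conj K _ g hg t ht
        have h4 : ∀ n, U K (j + 1 + n) ≤ U K (j + 1) := by
          intro n
          induction n with
          | zero => exact le_rfl
          | succ n ihn =>
            refine le_trans ?_ h3
            intro x hx
            rw [← add_assoc, mem_U_succ] at hx
            rw [mem_U_succ]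
            exact ⟨hx.1, fun y hy => ihn (hx.2 y hy)⟩
        have h5 : U K (j + 1) = K := by
          apply le_antisymm (U_le K _)
          have h6 := (htop (Group.nilpotencyClass K)).mpr (Subgroup.upperCentralSeries_nilpotencyClass (G := K))
          have h7 : U K (Group.nilpotencyClass K) ≤ U K (j + 1 + Group.nilpotencyClass K) :=
            map_mono (Subgroup.upperCentralSeries_mono K (by omega))
          exact h6.ge.trans (h7.trans (h4 _))
        have h6 := hLB j h5
        omega
      · rw [← hmul (j + 1), h2, pow_succ]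
        exact mul_dvd_mul h1 dvd_rfl
  have hfin : U K (i + 1) = K := by
    have h1 := relIndex_mul_relIndex E (U K (i + 1) ⊔ E) K le_sup_right (hLK _)
    have h2 : E.relIndex (U K (i + 1) ⊔ E) = p ^ i := Nat.dvd_antisymm (hlow i) (hup i le_rfl)
    rw [h2, hi] at h1
    have h3 : (U K (i + 1) ⊔ E).relIndex K = 1 := by
      have h4 : p ^ i * (U K (i + 1) ⊔ E).relIndex K = p ^ i * 1 := by rw [h1, mul_one]
      exact Nat.eq_of_mul_eq_mul_left (pow_pos hp.pos i) h4
    rw [relIndex_eq_one] at h3
    apply le_antisymm (U_le K _)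
    apply hcommK i K h3
    intro g hg t ht
    rw [hM] at hg
    exact (mem_normalizer_iff.mp hg t).mp ht
  apply le_antisymm
  · exact Subgroup.upperCentralSeries_eq_top_iff_nilpotencyClass_le.mp ((htop _).mp hfin)
  · have h1 := (htop (Group.nilpotencyClass K)).mpr (Subgroup.upperCentralSeries_nilpotencyClass (G := K))
    rcases Nat.eq_zero_or_pos (Group.nilpotencyClass K) with h2 | h2
    · exfalso
      rw [h2, U_zero] at h1
      have h3 : E = ⊥ := le_bot_iff.mp (h1 ▸ hEK)
      apply hK
      rw [eq_top_iff]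
      intro x _
      apply hEK
      apply hE.cent
      intro e he
      rw [h3, mem_bot] at he
      rw [he]; simp
    · obtain ⟨c, hc⟩ : ∃ c, Group.nilpotencyClass K = c + 1 := ⟨_, (Nat.succ_pred_eq_of_pos h2).symm⟩
      rw [hc] at h1 ⊢
      have := hLB c h1
      omega

end Class

end Cfsg.Agent.H455.Soft
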