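import Cfsg.Agent.H455.ZeroTools
import Cfsg.Agent.H328.KSpor
import Cfsg.Agent.H713.Spor.Fi22

/-!
# S4895: the row of `Fi₂₂` (helper455)
-/

set_option autoImplicit false

namespace Cfsg.Agent.H455.ZerosFi22

open Cfsg Cfsg.Agent.H504.Zeros Cfsg.Agent.H92.KTools Cfsg.Agent.H455.ZeroTools

/-- **The row of `Fi₂₂`.** -/
theorem fi22 {S : Type*} [Group S] (h : Cfsg.Spor.IsoFi22 S) : Big S := by
  obtain ⟨e⟩ := h
  refine Big.of_equiv e ?_
  have e1 : Cfsg.Spor.Fi22 ≃* Cfsg.Spor.Fi22 := MulEquiv.refl _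
  have hc : Nat.card Cfsg.Spor.Fi22 = 64561751654400 := Cfsg.Agent.H713.Spor.Fi22.card_fi22 e1
  have hfin : Finite Cfsg.Spor.Fi22 := Nat.finite_of_card_ne_zero (by rw [hc]; norm_num)
  have h11 : Fact (Nat.Prime 11) := ⟨by norm_num⟩
  have h13 : Fact (Nat.Prime 13) := ⟨by norm_num⟩
  obtain ⟨x, hx⟩ := exists_prime_orderOf_dvd_card' (G := Cfsg.Spor.Fi22) 13 (by rw [hc]; norm_num)
  obtain ⟨φ, hφ⟩ := Cfsg.Agent.H328.KSpor.s8_fi22
  have key : ∀ (m : Multiset ℕ) {n : ℕ}, m.sum ≤ 8 → (∀ a ∈ m, 2 ≤ a) → m.lcm = n →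
      HasOrd Cfsg.Spor.Fi22 n :=
    fun m _ h1 h2 h3 => h3 ▸ (Cfsg.Agent.H328.KSpor.hasOrd_perm m h1 h2).of_injective φ hφ
  obtain ⟨t, ht, htc, hto⟩ := exists_of_lists (G := Cfsg.Spor.Fi22)
    {1, 2, 3, 4, 5, 6, 7, 8, 10, 11, 12, 15, 22} (fun n => if n = 11 then 2 else 1) (by
      intro n hn
      simp only [Finset.mem_insert, Finset.mem_singleton] at hn
      rcases hn with rfl | rfl | rfl | rfl | rfl | rfl | rfl | rfl | rfl | rfl | rfl | rfl | rfl
      · exact one_list (hasOrd_one _)
      · exact one_list (key {2} (by decide) (by decide) (by decide))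
      · exact one_list (key {3} (by decide) (by decide) (by decide))
      · exact one_list (key {4} (by decide) (by decide) (by decide))
      · exact one_list (key {5} (by decide) (by decide) (by decide))
      · exact one_list (key {6} (by decide) (by decide) (by decide))
      · exact one_list (key {7} (by decide) (by decide) (by decide))
      · exact one_list (key {8} (by decide) (by decide) (by decide))
      · exact one_list (key {2, 5} (by decide) (by decide) (by decide))
      · obtain ⟨y, hy⟩ := exists_prime_orderOf_dvd_card' (G := Cfsg.Spor.Fi22) 11 (by rw [hc]; norm_num)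
        exact two_list hy (by rw [orderOf_inv, hy]) (Cfsg.Agent.H713.Spor.Fi22.not_real e1 hy)
      · exact one_list (key {3, 4} (by decide) (by decide) (by decide))
      · exact one_list (key {3, 5} (by decide) (by decide) (by decide))
      · exact one_list (Cfsg.Agent.H713.Spor.Fi22.exists_22 e1))
  exact big_of_isolated_out (r := 13) (n := 4966288588800) (e := 6) (m := 2) (by norm_num) hx
    (Cfsg.Agent.H713.Spor.Fi22.cent_13 e1 hx) (by rw [hc]) (by norm_num) (by norm_num) (by norm_num) t ht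
    (fun g hg h => absurd (h ▸ hto g hg) (by decide)) (by rw [htc]; decide)

end Cfsg.Agent.H455.ZerosFi22
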