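import Cfsg.Agent.H455.ZeroTools
import Cfsg.Agent.H723.Spor.Th
import Cfsg.Agent.H393.Iso.He

/-!
# S4895: the row of Th (helper455)

Elements of the centralizer of an involution, as words in the letters of the C-oracle.
-/

set_option autoImplicit false
set_option maxRecDepth 100000

namespace Cfsg.Agent.H455.ZerosTh

open Cfsg Subgroup Cfsg.Agent.H504.Zeros Cfsg.Agent.H92.KTools Cfsg.Agent.H455.ZeroTools Cfsg.Agent.H455.FewDZ
open Cfsg.Agent.Th.Base Cfsg.Agent.Th.Word Cfsg.Agent.Th.RelWords Cfsg.Agent.Th.PermTab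
  Cfsg.Agent.Th.KOracle Cfsg.Agent.Th.KPerm Cfsg.Agent.Th.NineAct Cfsg.Agent.Th.CStruct
  Cfsg.Agent.Th.COracleDef Cfsg.Agent.Th.COracleSound
open Cfsg.Agent.KFacts.Th.Mask Cfsg.Agent.KFacts.Th.Struct

universe u

/-- powers of words -/
def rep (w : List ℕ) : ℕ → List ℕ
  | 0 => []
  | n + 1 => w ++ rep w n

section

variable {G : Type u} [Group G] {γ : ℕ → G}

theorem ev_rep (w : List ℕ) (n : ℕ) : ev γ (rep w n) = ev γ w ^ n := by
  induction n with
  | zero => simp [rep]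
  | succ n ih =>
    show ev γ (w ++ rep w n) = _
    rw [ev_append, ih, pow_succ']

variable (h : Ctx γ)
include h

theorem ne_one_of_move {w : List ℕ} (hw : ∀ x ∈ w, isC x = true) {p : ℕ} (hp : p < 9) (hm : tr act9 w p ≠ p) :
    ev γ w ≠ 1 := by
  obtain ⟨f, -, -, hf⟩ := h.exists_epi
  intro h1
  have h2 := hf w hw
  have h3 : (⟨ev γ w, ev_mem_sub hw⟩ : sub γ isC) = 1 := Subtype.ext h1
  rw [h3, map_one] at h2
  have h4 := ev_rho_inv_apply isTab9 hw ⟨p, hp⟩
  rw [← h2] at h4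
  apply hm
  rw [← h4]
  simp

theorem ne_one_of_a {w : List ℕ} (hw : corc (w ++ [1]) = true) : ev γ w ≠ 1 := by
  intro h1
  have h2 := corc_sound h.inv h.C hw
  rw [ev_append, h1, one_mul, ev_singleton] at h2
  exact h.a1 h2

/-- the order of a word: `p = 2` through the central involution, the odd primes through `A9` -/
def ordChk (w : List ℕ) (n : ℕ) (L : List ℕ) : Bool :=
  corc (rep w n) && corc (rep w (n / 2) ++ [1]) &&
    L.all fun q => (List.range 9).any fun p => !(Nat.beq (tr act9 (rep w (n / q)) p) p)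

omit [Group G] h in
theorem mem_rep {w : List ℕ} {f : ℕ → Bool} (hw : ∀ x ∈ w, f x = true) (n : ℕ) : ∀ x ∈ rep w n, f x = true := by
  induction n with
  | zero => simp [rep]
  | succ n ih =>
    intro x hx
    rcases List.mem_append.1 hx with hx | hx
    · exact hw x hx
    · exact ih x hx

theorem hasOrd_word {w : List ℕ} {n : ℕ} {L : List ℕ} (hw : allL isC w = true) (hn : 0 < n)
    (hL : ∀ q : ℕ, q.Prime → q ∣ n → q = 2 ∨ q ∈ L) (hc : ordChk w n L = true) : HasOrd G n := by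
  unfold ordChk at hc
  rw [Bool.and_eq_true, Bool.and_eq_true, List.all_eq_true] at hc
  obtain ⟨⟨h1, h2⟩, h3⟩ := hc
  have hw' := (allL_iff _ _).1 hw
  refine ⟨ev γ w, orderOf_eq_of_pow_and_pow_div_prime hn ?_ ?_⟩
  · rw [← ev_rep]
    exact corc_sound h.inv h.C h1
  · intro q hq hqn
    rw [← ev_rep]
    rcases hL q hq hqn with rfl | hq'
    · exact ne_one_of_a h h2
    · have h4 := h3 q hq'
      rw [List.any_eq_true] at h4
      obtain ⟨p, hp, hm⟩ := h4
      refine ne_one_of_move h (mem_rep hw' _) (List.mem_range.1 hp) fun h5 => ?_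
      rw [h5, Nat.beq_refl] at hm
      exact absurd hm (by decide)

theorem ab_ne : γ 1 * γ 2 ≠ 1 := by
  intro hab
  have h2 : γ 2 = γ 1 := by
    have h3 := h.K.b2
    rw [pow_two] at h3
    rw [eq_inv_of_mul_eq_one_left hab]
    exact (inv_eq_of_mul_eq_one_left h3).symm
  have hle : sub γ isK ≤ sub γ isC := by
    unfold sub
    rw [closure_le]
    rintro z ⟨x, hx, rfl⟩
    by_cases hx2 : x = 2
    · rw [hx2, h2]
      exact subset_closure ⟨1, rfl, rfl⟩
    · refine subset_closure ⟨x, ?_, rfl⟩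
      rw [isK_iff] at hx
      rw [isC_iff]
      omega
  have h4 := Subgroup.card_dvd_of_le hle
  rw [h.cardK, h.cardC] at h4
  norm_num at h4

theorem hasOrd_21 : HasOrd G 21 := by
  have : Fact (Nat.Prime 3) := ⟨by norm_num⟩
  have : Fact (Nat.Prime 7) := ⟨by norm_num⟩
  have h3 : orderOf (γ 1 * γ 2) = 3 := orderOf_eq_prime h.K.ab3 (ab_ne h)
  have h7 : orderOf (γ 6) = 7 := by
    refine orderOf_eq_prime h.K.s7 ?_
    have h1 := ne_one_of_move h (w := [6]) (by decide) (p := 2) (by norm_num) (by decide +kernel)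
    rwa [ev_singleton] at h1
  have ha : γ 1 * γ 6 = γ 6 * γ 1 := by
    have h1 := h.K.sa
    have h2 : γ 1 * γ 6 * ((γ 6)⁻¹ * (γ 1)⁻¹ * γ 6 * γ 1) = γ 6 * γ 1 := by group
    rwa [h1, mul_one] at h2
  have hb : γ 2 * γ 6 = γ 6 * γ 2 := by
    have h1 := h.K.sb
    have h2 : γ 2 * γ 6 * ((γ 6)⁻¹ * (γ 2)⁻¹ * γ 6 * γ 2) = γ 6 * γ 2 := by group
    rwa [h1, mul_one] at h2
  have hc : Commute (γ 1 * γ 2) (γ 6) := by
    show γ 1 * γ 2 * γ 6 = γ 6 * (γ 1 * γ 2)
    rw [mul_assoc, hb, ← mul_assoc, ha, mul_assoc]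
  exact HasOrd.mul_of_commute h3 h7 hc (by norm_num)

theorem hasOrd_36 : HasOrd G 36 :=
  hasOrd_word h (w := [4, 5, 10, 7]) (L := [3]) (by decide) (by norm_num) (fun q hq hd => by
    have h1 : q ∣ 2 ^ 2 * 3 ^ 2 := hd
    rcases hq.dvd_mul.1 h1 with h2 | h2
    · exact Or.inl ((Nat.prime_dvd_prime_iff_eq hq Nat.prime_two).1 (hq.dvd_of_dvd_pow h2))
    · rw [(Nat.prime_dvd_prime_iff_eq hq Nat.prime_three).1 (hq.dvd_of_dvd_pow h2)]
      exact Or.inr (by simp)) (by decide +kernel)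

theorem hasOrd_24 : HasOrd G 24 :=
  hasOrd_word h (w := [3, 4, 8]) (L := [3]) (by decide) (by norm_num) (fun q hq hd => by
    have h1 : q ∣ 2 ^ 3 * 3 := hd
    rcases hq.dvd_mul.1 h1 with h2 | h2
    · exact Or.inl ((Nat.prime_dvd_prime_iff_eq hq Nat.prime_two).1 (hq.dvd_of_dvd_pow h2))
    · rw [(Nat.prime_dvd_prime_iff_eq hq Nat.prime_three).1 h2]
      exact Or.inr (by simp)) (by decide +kernel)

theorem hasOrd_28 : HasOrd G 28 :=
  hasOrd_word h (w := [3, 4, 5, 7]) (L := [7]) (by decide) (by norm_num) (fun q hq hd => by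
    have h1 : q ∣ 2 ^ 2 * 7 := hd
    rcases hq.dvd_mul.1 h1 with h2 | h2
    · exact Or.inl ((Nat.prime_dvd_prime_iff_eq hq Nat.prime_two).1 (hq.dvd_of_dvd_pow h2))
    · rw [(Nat.prime_dvd_prime_iff_eq hq (by norm_num)).1 h2]
      exact Or.inr (by simp)) (by decide +kernel)

theorem hasOrd_20 : HasOrd G 20 :=
  hasOrd_word h (w := [4, 6, 8, 10]) (L := [5]) (by decide) (by norm_num) (fun q hq hd => by
    have h1 : q ∣ 2 ^ 2 * 5 := hd
    rcases hq.dvd_mul.1 h1 with h2 | h2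
    · exact Or.inl ((Nat.prime_dvd_prime_iff_eq hq Nat.prime_two).1 (hq.dvd_of_dvd_pow h2))
    · rw [(Nat.prime_dvd_prime_iff_eq hq (by norm_num)).1 h2]
      exact Or.inr (by simp)) (by decide +kernel)

theorem hasOrd_30 : HasOrd G 30 :=
  hasOrd_word h (w := [4, 5, 7, 11]) (L := [3, 5]) (by decide) (by norm_num) (fun q hq hd => by
    have h1 : q ∣ 2 * (3 * 5) := hd
    rcases hq.dvd_mul.1 h1 with h2 | h2
    · exact Or.inl ((Nat.prime_dvd_prime_iff_eq hq Nat.prime_two).1 h2)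
    · rcases hq.dvd_mul.1 h2 with h2 | h2
      · rw [(Nat.prime_dvd_prime_iff_eq hq Nat.prime_three).1 h2]
        exact Or.inr (by simp)
      · rw [(Nat.prime_dvd_prime_iff_eq hq (by norm_num)).1 h2]
        exact Or.inr (by simp)) (by decide +kernel)

end

theorem chk31 : chk 90745943887872000 31 = true := by decide +kernel

/-- the orders which are used -/
def S : Finset ℕ := {1, 2, 3, 4, 6, 9, 12, 18, 36, 8, 24, 7, 14, 28, 5, 10, 15, 30, 20, 21, 13, 19}

theorem orders {n : ℕ} (hn : n ∈ S) : HasOrd Spor.Th n := by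
  have hc : Nat.card Spor.Th = 90745943887872000 := Cfsg.Agent.H723.Spor.Th.card_th
  have hfin : Finite Spor.Th := Nat.finite_of_card_ne_zero (by rw [hc]; norm_num)
  have h := Cfsg.Agent.KFacts.Th.Main.ctx
  have hp : ∀ p : ℕ, p.Prime → p ∣ 90745943887872000 → HasOrd Spor.Th p :=
    fun p hp hd => hasOrd_prime hp (by rw [hc]; exact hd)
  have key : ∀ n ∈ S, n ∣ 36 ∨ n ∣ 24 ∨ n ∣ 28 ∨ n ∣ 20 ∨ n ∣ 30 ∨ n ∣ 21 ∨ n = 13 ∨ n = 19 := by decide
  rcases key n hn with h1 | h1 | h1 | h1 | h1 | h1 | rfl | rfl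
  · exact (hasOrd_36 h).of_dvd h1 (by norm_num)
  · exact (hasOrd_24 h).of_dvd h1 (by norm_num)
  · exact (hasOrd_28 h).of_dvd h1 (by norm_num)
  · exact (hasOrd_20 h).of_dvd h1 (by norm_num)
  · exact (hasOrd_30 h).of_dvd h1 (by norm_num)
  · exact (hasOrd_21 h).of_dvd h1 (by norm_num)
  · exact hp 13 (by norm_num) (by norm_num)
  · exact hp 19 (by norm_num) (by norm_num)

/-- **The row of Th.** -/
theorem th {S' : Type*} [Group S'] (h : Cfsg.Spor.IsoTh S') : Big S' := by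
  obtain ⟨e⟩ := h
  refine Big.of_equiv e ?_
  have hc : Nat.card Spor.Th = 90745943887872000 := Cfsg.Agent.H723.Spor.Th.card_th
  have hfin : Finite Spor.Th := Nat.finite_of_card_ne_zero (by rw [hc]; norm_num)
  have h31 : Fact (Nat.Prime 31) := ⟨by norm_num⟩
  have h13 : Fact (Nat.Prime 13) := ⟨by norm_num⟩
  obtain ⟨u, hu, hu'⟩ : ∃ y : Spor.Th, 13 ∣ orderOf y ∧ orderOf y ≠ 13 := by
    refine Cfsg.Agent.H713.exists_orderOf_of_not_dvd ?_ ?_
    · rw [hc]; exact Cfsg.Agent.H713.factorization_eq_one (by norm_num) (by norm_num)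
    · rw [hc]; norm_num
  set k := orderOf u with hk
  have hkS : k ∉ S := by
    intro h
    have h1 : ∀ n ∈ S, 13 ∣ n → n = 13 := by decide
    exact hu' (h1 k h hu)
  have hna : Cfsg.Agent.H393.Iso.NA 31 Spor.Th := by
    refine Cfsg.Agent.H393.Iso.NA.of_card fun t ht => ?_
    rw [MonsterX.ThOneClass.card_centralizer ht]
    norm_num
  have hk31 : k ≠ 31 := by
    intro h
    rw [h] at hu
    exact absurd hu (by norm_num)
  refine big_of_orders_few (r := 31) (n := 2927288512512000) (e := 15) (m := 2)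
    Cfsg.Agent.H723.Spor.Th.hasDZ_31 hc (by norm_num) (by norm_num) (by norm_num)
    (by norm_num) (by norm_num) hna chk31 (insert k S) ?_ ?_ ?_
  · intro n hn
    rcases Finset.mem_insert.1 hn with rfl | hn
    · exact ⟨u, rfl⟩
    · exact orders hn
  · rw [Finset.mem_insert, not_or]
    exact ⟨Ne.symm hk31, by decide⟩
  · rw [Finset.card_insert_of_notMem hkS]
    decide

end Cfsg.Agent.H455.ZerosTh
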